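import Cfsg.Agent.Thompson.PComplement
import Cfsg.Agent.SolvStruct.NilpotentHall
import Cfsg.Agent.Coprime.Generation
import Mathlib.GroupTheory.FixedPointFree
import Mathlib.GroupTheory.Nilpotent
import Mathlib.Dynamics.PeriodicPts.Lemmas

/-!
Thompson: a finite group with a fixed-point-free endomorphism `φ` with `φ^r = _root_.id`, `r` prime, is
nilpotent.
-/

set_option autoImplicit false
set_option linter.unusedSectionVars false

namespace Cfsg.Lib.Thompson

open Subgroup MonoidHom

universe u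

variable {G : Type u} [Group G] {φ : G →* G} {r : ℕ}

/-- The restriction of an endomorphism to an invariant subgroup. -/
def restrictEnd (φ : G →* G) {H : Subgroup G} (h : H.map φ = H) : H →* H :=
  MonoidHom.mk' (fun x => ⟨φ x.1, h.le (mem_map_of_mem φ x.2)⟩)
    fun _ _ => Subtype.ext (map_mul φ _ _)

theorem coe_iterate_restrictEnd {H : Subgroup G} (h : H.map φ = H) (n : ℕ) (x : H) :
    (((restrictEnd φ h)^[n] x : H) : G) = φ^[n] (x : G) := by
  induction n with
  | zero => rfl
  | succ n ih =>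
    rw [Function.iterate_succ_apply', Function.iterate_succ_apply', ← ih]
    rfl

theorem fpf_restrictEnd (hφ : FixedPointFree φ) {H : Subgroup G} (h : H.map φ = H) :
    FixedPointFree (restrictEnd φ h) :=
  fun x hx => Subtype.ext (hφ _ (congrArg Subtype.val hx))

theorem iterate_restrictEnd (hr : φ^[r] = _root_.id) {H : Subgroup G} (h : H.map φ = H) :
    (restrictEnd φ h)^[r] = _root_.id :=
  funext fun x => Subtype.ext (by rw [coe_iterate_restrictEnd, hr]; rfl)

theorem injective_of_iterate (hr : φ^[r] = _root_.id) (h0 : 0 < r) : Function.Injective φ := by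
  obtain ⟨m, rfl⟩ : ∃ m, r = m + 1 := ⟨r - 1, by omega⟩
  intro a b hab
  have h1 := congrArg φ^[m] hab
  rwa [← Function.iterate_succ_apply, ← Function.iterate_succ_apply, hr] at h1

theorem map_eq_of_le [Finite G] (hi : Function.Injective φ) {H : Subgroup G} (h : H.map φ ≤ H) :
    H.map φ = H :=
  eq_of_le_of_card_ge h (card_map_of_injective hi).ge

theorem map_normalizer_eq [Finite G] (hi : Function.Injective φ) {H : Subgroup G}
    (h : H.map φ = H) : (normalizer (H : Set G)).map φ = normalizer (H : Set G) :=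
  map_eq_of_le hi fun x hx => by
    have := le_normalizer_map φ hx
    rwa [h] at this

theorem map_centralizer_eq [Finite G] (hi : Function.Injective φ) {H : Subgroup G}
    (h : H.map φ = H) : (centralizer (H : Set G)).map φ = centralizer (H : Set G) :=
  map_eq_of_le hi fun x hx => by
    obtain ⟨y, hy, rfl⟩ := mem_map.mp hx
    refine mem_centralizer_iff.mpr fun z hz => ?_
    have hz' : z ∈ H.map φ := by rw [h]; exact hz
    obtain ⟨w, hw, rfl⟩ := mem_map.mp hz'
    rw [← map_mul, mem_centralizer_iff.mp hy w hw, map_mul]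

theorem map_normal_sylow_eq [Finite G] (hi : Function.Injective φ) {p : ℕ} [Fact p.Prime]
    (P : Sylow p G) [hn : (P : Subgroup G).Normal] : (P : Subgroup G).map φ = P :=
  map_eq_of_le hi (by
    obtain ⟨Q, hQ⟩ := (P.2.map φ).exists_le_sylow
    obtain ⟨g, rfl⟩ := MulAction.exists_smul_eq G P Q
    intro x hx
    have h := hQ hx
    rw [Cfsg.Lib.Transfer.sylow_smul_coe, Cfsg.Lib.Transfer.mem_map_conj] at h
    simpa [mul_assoc] using hn.conj_mem _ h g)

/-- A fixed-point-free endomorphism leaves some Sylow `p`-subgroup invariant. -/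
theorem exists_invariant_sylow_fpf [Finite G] (hφ : FixedPointFree φ) (hi : Function.Injective φ)
    (p : ℕ) [Fact p.Prime] : ∃ P : Sylow p G, (P : Subgroup G).map φ = P := by
  obtain ⟨P⟩ : Nonempty (Sylow p G) := inferInstance
  obtain ⟨Q, hQ⟩ := (P.2.map φ).exists_le_sylow
  obtain ⟨g, rfl⟩ := MulAction.exists_smul_eq G P Q
  obtain ⟨y, hy⟩ := hφ.commutatorMap_surjective g⁻¹
  rw [MonoidHom.commutatorMap_apply, div_eq_mul_inv] at hy
  refine ⟨y⁻¹ • P, map_eq_of_le hi fun x hx => ?_⟩
  obtain ⟨z, hz, rfl⟩ := mem_map.mp hx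
  rw [Cfsg.Lib.Transfer.sylow_smul_coe, Cfsg.Lib.Transfer.mem_map_conj] at hz
  simp only [inv_inv] at hz
  have h := hQ (mem_map_of_mem φ hz)
  rw [Cfsg.Lib.Transfer.sylow_smul_coe, Cfsg.Lib.Transfer.mem_map_conj, map_mul, map_mul,
    map_inv] at h
  rw [Cfsg.Lib.Transfer.sylow_smul_coe, Cfsg.Lib.Transfer.mem_map_conj, inv_inv]
  have hy' : y = g⁻¹ * φ y := by rw [← hy]; group
  rw [hy']
  simpa [mul_assoc] using h

open Finset in
/-- The averaging argument. -/
theorem eq_bot_of_inf_centralizer_eq_bot [Finite G] (hφ : FixedPointFree φ) (hr : φ^[r] = _root_.id)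
    (hrp : r.Prime) {V Q : Subgroup G} [hVn : V.Normal] [IsMulCommutative V] (hV : V.map φ = V)
    (hQ : Q.map φ = Q) (hcop : (Nat.card Q).Coprime (Nat.card V))
    (hC : V ⊓ centralizer (Q : Set G) = ⊥) : V = ⊥ := by
  classical
  letI : CommGroup V := { (inferInstance : Group V) with mul_comm := mul_comm' }
  haveI := Fintype.ofFinite Q
  rw [eq_bot_iff_forall]
  intro v hv
  set w : V := ⟨v, hv⟩ with hw
  set ψ := restrictEnd φ hV with hψ
  let θ : G → V →* V := fun g => (MulAut.conjNormal (H := V) g).toMonoidHom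
  have hθ : ∀ (g : G) (u : V), ((θ g u : V) : G) = g * (u : G) * g⁻¹ := fun g u =>
    MulAut.conjNormal_apply g u
  have hQk : ∀ k : ℕ, ∀ x ∈ Q, φ^[k] x ∈ Q := fun k => by
    induction k with
    | zero => exact fun x hx => hx
    | succ k ih =>
      intro x hx
      rw [Function.iterate_succ_apply']
      have := mem_map_of_mem φ (ih x hx)
      rwa [hQ] at this
  have key : ∀ x : Q, ∏ k ∈ range r, θ ((x : G) * (φ^[k] (x : G))⁻¹) (ψ^[k] w) = 1 := by
    intro x
    have h1 : ∏ k ∈ range r, ψ^[k] (θ (x : G)⁻¹ w) = 1 :=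
      (fpf_restrictEnd hφ hV).prod_pow_eq_one (iterate_restrictEnd hr hV) (θ (x : G)⁻¹ w)
    have h2 := congrArg (θ (x : G)) h1
    rw [map_prod, map_one] at h2
    rw [← h2]
    refine prod_congr rfl fun k _ => Subtype.ext ?_
    rw [hθ, hθ, hψ, coe_iterate_restrictEnd, coe_iterate_restrictEnd, hθ, iterate_map_mul,
      iterate_map_mul, inv_inv, iterate_map_inv]
    group
  have hall : ∏ k ∈ range r, ∏ x : Q, θ ((x : G) * (φ^[k] (x : G))⁻¹) (ψ^[k] w) = 1 := by
    rw [prod_comm]
    exact prod_eq_one fun x _ => key x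
  have hfix : ∀ u : V, ∏ x : Q, θ (x : G) u = 1 := fun u => by
    have hmem : ((∏ x : Q, θ (x : G) u : V) : G) ∈ V ⊓ centralizer (Q : Set G) := by
      refine ⟨Subtype.prop _, mem_centralizer_iff.mpr fun q hq => ?_⟩
      have h : θ q (∏ x : Q, θ (x : G) u) = ∏ x : Q, θ (x : G) u := by
        rw [map_prod]
        refine Fintype.prod_equiv (Equiv.mulLeft (⟨q, hq⟩ : Q)) _ _ fun x => Subtype.ext ?_
        simp only [hθ, Equiv.coe_mulLeft, Subgroup.coe_mul]
        group
      have h' := congrArg Subtype.val h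
      rw [hθ, mul_inv_eq_iff_eq_mul] at h'
      exact h'
    rw [hC, mem_bot] at hmem
    exact Subtype.ext hmem
  have hk : ∀ k ∈ range r, k ≠ 0 →
      ∏ x : Q, θ ((x : G) * (φ^[k] (x : G))⁻¹) (ψ^[k] w) = 1 := by
    intro k hk hk0
    let c : Q → Q := fun x => ⟨(x : G) * (φ^[k] (x : G))⁻¹, mul_mem x.2 (inv_mem (hQk k _ x.2))⟩
    have hc : Function.Bijective c := by
      refine Finite.injective_iff_bijective.mp fun a b hab => ?_
      have h : (a : G) * (φ^[k] (a : G))⁻¹ = (b : G) * (φ^[k] (b : G))⁻¹ := congrArg Subtype.val hab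
      have h2 : φ^[k] ((b : G)⁻¹ * a) = (b : G)⁻¹ * a := by
        rw [iterate_map_mul, iterate_map_inv]
        calc (φ^[k] (b : G))⁻¹ * φ^[k] (a : G)
            = (b : G)⁻¹ * ((b : G) * (φ^[k] (b : G))⁻¹) * φ^[k] (a : G) := by group
          _ = (b : G)⁻¹ * a := by rw [← h]; group
      have h3 : Function.IsPeriodicPt φ (Nat.gcd k r) ((b : G)⁻¹ * a) :=
        Function.IsPeriodicPt.gcd h2 (by show φ^[r] _ = _; rw [hr]; rfl)
      have hg : Nat.gcd k r = 1 :=
        (hrp.coprime_iff_not_dvd.mpr fun h => hk0 (Nat.eq_zero_of_dvd_of_lt h (mem_range.mp hk))).symm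
      rw [hg] at h3
      exact Subtype.ext (inv_mul_eq_one.mp (hφ _ h3)).symm
    rw [← hfix (ψ^[k] w)]
    exact Fintype.prod_bijective c hc _ _ fun x => rfl
  rw [prod_eq_single 0 hk (fun h => absurd (mem_range.mpr hrp.pos) h)] at hall
  have h0 : ∀ x : Q, θ ((x : G) * (φ^[0] (x : G))⁻¹) (ψ^[0] w) = w := fun x =>
    Subtype.ext (by simp [hθ])
  rw [prod_congr rfl fun x _ => h0 x, prod_const, card_univ, ← Nat.card_eq_fintype_card] at hall
  have hw1 : orderOf w = 1 := Nat.eq_one_of_dvd_coprimes hcop (orderOf_dvd_of_pow_eq_one hall)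
    (orderOf_dvd_natCard w)
  exact congrArg Subtype.val (orderOf_eq_one_iff.mp hw1)

/-- The quotient endomorphism. -/
theorem quotient_data [Finite G] (hφ : FixedPointFree φ) (hr : φ^[r] = _root_.id) (N : Subgroup G)
    [N.Normal] (hN : N.map φ = N) :
    ∃ ψ : G ⧸ N →* G ⧸ N, FixedPointFree ψ ∧ ψ^[r] = _root_.id ∧
      ∀ g : G, ψ (QuotientGroup.mk' N g) = QuotientGroup.mk' N (φ g) := by
  let ψ := QuotientGroup.map N N φ (map_le_iff_le_comap.mp hN.le)
  have hψ : ∀ g : G, ψ (QuotientGroup.mk' N g) = QuotientGroup.mk' N (φ g) := fun g => rfl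
  refine ⟨ψ, fun x hx => ?_, funext fun x => ?_, hψ⟩
  · obtain ⟨g, rfl⟩ := QuotientGroup.mk'_surjective N x
    rw [hψ] at hx
    have h1 : g / φ g ∈ N := QuotientGroup.eq_iff_div_mem.mp hx.symm
    obtain ⟨⟨n, hn⟩, hn'⟩ := (fpf_restrictEnd hφ hN).commutatorMap_surjective ⟨g / φ g, h1⟩
    have h2 : n / φ n = g / φ g := congrArg Subtype.val hn'
    rw [← hφ.commutatorMap_injective h2]
    exact (QuotientGroup.eq_one_iff n).mpr hn
  · obtain ⟨g, rfl⟩ := QuotientGroup.mk'_surjective N x
    have h : ∀ n, ψ^[n] (QuotientGroup.mk' N g) = QuotientGroup.mk' N (φ^[n] g) := fun n => by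
      induction n with
      | zero => rfl
      | succ n ih => rw [Function.iterate_succ_apply', ih, hψ, Function.iterate_succ_apply']
    rw [h, hr]; rfl

/-- **Thompson's theorem.** -/
theorem isNilpotent_of_fpf_aux (hrp : r.Prime) (n : ℕ) :
    ∀ (G : Type u) [Group G] [Finite G], Nat.card G = n → ∀ φ : G →* G, FixedPointFree φ →
      φ^[r] = _root_.id → Group.IsNilpotent G := by
  induction n using Nat.strong_induction_on with
  | _ n ih =>
  intro G _ _ hG φ hφ hr
  have hi := injective_of_iterate hr hrp.pos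
  have ihsub : ∀ H : Subgroup G, H ≠ ⊤ → H.map φ = H → Group.IsNilpotent H := fun H hH hHi =>
    ih (Nat.card H) (hG ▸ lt_of_le_of_ne (card_le_card_group H)
      (fun h => hH (H.eq_top_of_card_eq h))) H rfl _ (fpf_restrictEnd hφ hHi)
      (iterate_restrictEnd hr hHi)
  have ihquot : ∀ N : Subgroup G, N.Normal → N ≠ ⊥ → N.map φ = N → ∀ (M : Subgroup G) [M.Normal],
      M = N → Group.IsNilpotent (G ⧸ M) := by
    intro N hNn hNe hNi M _ hM
    subst hM
    obtain ⟨ψ, h1, h2, -⟩ := quotient_data hφ hr M hNi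
    exact ih (Nat.card (G ⧸ M)) (by
      rw [← hG, card_eq_card_quotient_mul_card_subgroup M]
      exact lt_mul_of_one_lt_right Nat.card_pos ((one_lt_card_iff_ne_bot _).mpr hNe))
      _ rfl ψ h1 h2
  by_cases hN : ∃ N : Subgroup G, N.Normal ∧ N ≠ ⊥ ∧ N ≠ ⊤ ∧ N.map φ = N
  · obtain ⟨V, ⟨hVn, hVne, hVt, hVi⟩, hVmin⟩ := WellFounded.has_min
      (wellFounded_lt (α := Subgroup G))
      {N : Subgroup G | N.Normal ∧ N ≠ ⊥ ∧ N ≠ ⊤ ∧ N.map φ = N} hN
    haveI := hVn
    have hVmin' : ∀ W : Subgroup G, W.Normal → W.map φ = W → W ≤ V → W = ⊥ ∨ W = V := by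
      intro W hWn hWi hWV
      by_contra h
      push Not at h
      exact hVmin W ⟨hWn, h.1, fun ht => hVt (top_le_iff.mp (ht ▸ hWV)), hWi⟩
        (lt_of_le_of_ne hWV h.2)
    haveI hVnil := ihsub V hVt hVi
    have hVc : IsMulCommutative V := by
      haveI := hVnil
      have hlt : ⁅V, V⁆ < V := Cfsg.Lib.Coprime.commutator_lt_of_isNilpotent le_rfl hVne le_normalizer
      have hC := (hVmin' ⁅V, V⁆ inferInstance (by rw [map_commutator, hVi]) hlt.le).resolve_right
        hlt.ne
      rw [commutator_eq_bot_iff_le_centralizer] at hC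
      exact ⟨⟨fun a b => Subtype.ext (mem_centralizer_iff.mp (hC b.2) a a.2)⟩⟩
    haveI := hVc
    obtain ⟨p, hp, hpd⟩ := Nat.exists_prime_and_dvd
      (fun h : Nat.card V = 1 => hVne (card_eq_one.mp h))
    haveI := Fact.mk hp
    let W : Subgroup G :=
      { carrier := {x | x ∈ V ∧ x ^ p = 1}
        one_mem' := ⟨one_mem _, one_pow p⟩
        mul_mem' := fun {a b} ha hb => ⟨mul_mem ha.1 hb.1, by
          have hc : Commute a b := congrArg Subtype.val (mul_comm' (⟨a, ha.1⟩ : V) ⟨b, hb.1⟩)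
          rw [hc.mul_pow, ha.2, hb.2, one_mul]⟩
        inv_mem' := fun {a} ha => ⟨inv_mem ha.1, by rw [inv_pow, ha.2, inv_one]⟩ }
    have hWV : W = V := by
      refine (hVmin' W ⟨fun x hx g => ⟨hVn.conj_mem x hx.1 g, by
        rw [conj_pow, hx.2, mul_one, mul_inv_cancel]⟩⟩ (map_eq_of_le hi ?_)
        fun x hx => hx.1).resolve_left fun h => ?_
      · rintro _ ⟨x, hx, rfl⟩
        exact ⟨hVi ▸ mem_map_of_mem φ hx.1, by rw [← map_pow, hx.2, map_one]⟩
      · obtain ⟨⟨x, hx⟩, hxo⟩ := exists_prime_orderOf_dvd_card' (G := V) p hpd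
        rw [Subgroup.orderOf_mk] at hxo
        have : x ∈ W := ⟨hx, by rw [← hxo]; exact pow_orderOf_eq_one x⟩
        rw [h, mem_bot] at this
        rw [this, orderOf_one] at hxo
        exact hp.one_lt.ne hxo
    have hVp : IsPGroup p V := fun x => ⟨1, Subtype.ext (by
      rw [pow_one, SubmonoidClass.coe_pow, OneMemClass.coe_one]
      exact (hWV.ge x.2).2)⟩
    haveI hq := ihquot V hVn hVne hVi V rfl
    refine ((Group.isNilpotent_of_finite_tfae (G := G)).out 0 3 rfl rfl).mpr fun q hqf P => ?_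
    haveI := hqf
    obtain ⟨Q, hQi⟩ := exists_invariant_sylow_fpf hφ hi q
    suffices h : (Q : Subgroup G).Normal by
      obtain ⟨g, rfl⟩ := MulAction.exists_smul_eq G Q P
      rw [Sylow.smul_eq_of_normal]; exact h
    haveI hQ'n := ((Group.isNilpotent_of_finite_tfae (G := G ⧸ V)).out 0 3 rfl rfl).mp hq q hqf
      (Q.mapSurjective (QuotientGroup.mk'_surjective V))
    have hS : ((Q : Subgroup G) ⊔ V).Normal := by
      have h1 : (Q : Subgroup G) ⊔ V = ((Q : Subgroup G).map (QuotientGroup.mk' V)).comap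
          (QuotientGroup.mk' V) := by rw [comap_map_eq, QuotientGroup.ker_mk']
      rw [h1]
      rw [Sylow.coe_mapSurjective] at hQ'n
      exact hQ'n.comap _
    haveI := hS
    by_cases hqp : q = p
    · subst hqp
      rwa [sup_eq_left.mpr (le_sylow_of_normal hVp Q)] at hS
    have hcop : (Nat.card (Q : Subgroup G)).Coprime (Nat.card V) := by
      obtain ⟨a, ha⟩ := IsPGroup.iff_card.mp hVp
      rw [ha, Q.card_eq_multiplicity]
      exact Nat.Coprime.pow _ _ ((Nat.coprime_primes hqf.out hp).mpr hqp)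
    by_cases hSt : (Q : Subgroup G) ⊔ V = ⊤
    · have hC : V ⊓ centralizer ((Q : Subgroup G) : Set G) ≠ ⊥ := fun h =>
        hVne (eq_bot_of_inf_centralizer_eq_bot hφ hr hrp hVi hQi hcop h)
      have hCn : (V ⊓ centralizer ((Q : Subgroup G) : Set G)).Normal := by
        refine normalizer_eq_top_iff.mp (top_le_iff.mp (hSt.ge.trans (sup_le ?_ ?_)))
        · exact Cfsg.Lib.Coprime.le_normalizer_inf le_normalizer_of_normal
            (le_normalizer.trans (normalizer_le_normalizer_centralizer _))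
        · intro v hv
          refine centralizer_le_normalizer _ (mem_centralizer_iff.mpr fun y hy => ?_)
          exact congrArg Subtype.val (mul_comm' (⟨y, hy.1⟩ : V) ⟨v, hv⟩)
      have hCV := (hVmin' _ hCn (by
        rw [map_inf _ _ φ hi, hVi, map_centralizer_eq hi hQi]) inf_le_left).resolve_left hC
      refine normalizer_eq_top_iff.mp (top_le_iff.mp (hSt.ge.trans (sup_le le_normalizer ?_)))
      exact (inf_eq_left.mp hCV).trans (centralizer_le_normalizer _)
    · haveI := ihsub _ hSt (by rw [Subgroup.map_sup, hQi, hVi])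
      haveI : ((Q.subtype (le_sup_left : (Q : Subgroup G) ≤ (Q : Subgroup G) ⊔ V) :
          Sylow q ↥((Q : Subgroup G) ⊔ V)) : Subgroup ↥((Q : Subgroup G) ⊔ V)).Normal :=
        ((Group.isNilpotent_of_finite_tfae (G := ↥((Q : Subgroup G) ⊔ V))).out 0 3 rfl rfl).mp
          inferInstance q hqf _
      refine normalizer_eq_top_iff.mp (top_le_iff.mp fun g _ => ?_)
      have hmem : ∀ x ∈ (Q : Subgroup G), ∀ g : G, g * x * g⁻¹ ∈ (Q : Subgroup G) := by
        intro x hx g
        have hgx : g * x * g⁻¹ ∈ (Q : Subgroup G) ⊔ V := hS.conj_mem x (mem_sup_left hx) g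
        have hp' : IsPGroup q (zpowers (⟨_, hgx⟩ : ↥((Q : Subgroup G) ⊔ V))) := by
          obtain ⟨j, hj⟩ := IsPGroup.iff_orderOf.mp Q.2 ⟨x, hx⟩
          refine IsPGroup.of_card (n := j) ?_
          rw [Nat.card_zpowers, ← hj, Subgroup.orderOf_mk, Subgroup.orderOf_mk]
          exact MulEquiv.orderOf_eq (MulAut.conj g) x
        obtain ⟨T, hT⟩ := hp'.exists_le_sylow
        have hTQ : T = Q.subtype le_sup_left := by
          obtain ⟨k, hk⟩ := MulAction.exists_smul_eq ↥((Q : Subgroup G) ⊔ V) (Q.subtype (le_sup_left :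
            (Q : Subgroup G) ≤ (Q : Subgroup G) ⊔ V)) T
          rw [← hk, Sylow.smul_eq_of_normal]
        have := hT (mem_zpowers _)
        rw [hTQ] at this
        exact this
      rw [mem_normalizer_iff]
      refine fun x => ⟨fun hx => hmem x hx g, fun hx => ?_⟩
      simpa [mul_assoc] using hmem _ hx g⁻¹
  · push Not at hN
    by_contra hnil
    have hpow : ∀ p : ℕ, p.Prime → ¬ IsPGroup p G := fun p hp h => by
      haveI := Fact.mk hp
      exact hnil h.isNilpotent
    obtain ⟨p, hp, hpd, hodd⟩ : ∃ p, p.Prime ∧ p ∣ Nat.card G ∧ p ≠ 2 := by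
      by_contra h
      push Not at h
      have h2 : IsPGroup 2 G := IsPGroup.of_card (n := (Nat.card G).primeFactorsList.length)
        (Nat.eq_prime_pow_of_unique_prime_dvd Nat.card_pos.ne' fun {d} hd hdd => h d hd hdd)
      exact hpow 2 Nat.prime_two h2
    haveI := Fact.mk hp
    obtain ⟨P, hPi⟩ := exists_invariant_sylow_fpf hφ hi p
    have hPne : (P : Subgroup G) ≠ ⊥ := P.ne_bot_of_dvd_card hpd
    have htop : ∀ N : Subgroup G, N.Normal → N ≠ ⊥ → N.map φ = N → N = ⊤ := fun N h1 h2 h3 =>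
      by_contra fun h4 => hN N h1 h2 h4 h3
    have hJi : (Cfsg.thompsonSubgroupOf p (P : Subgroup G)).map φ =
        Cfsg.thompsonSubgroupOf p (P : Subgroup G) := by
      rw [map_thompsonSubgroupOf hi.injOn, hPi]
    have hJ : normalizer (Cfsg.thompsonSubgroupOf p (P : Subgroup G) : Set G) ≠ ⊤ := fun h => by
      have hJt := htop _ (normalizer_eq_top_iff.mp h) (thompsonSubgroupOf_ne_bot P.2 hPne) hJi
      exact hpow p hp ((P.2.to_le (hJt ▸ thompsonSubgroupOf_le (P : Subgroup G))).of_equiv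
        topEquiv)
    have hZi : ((P : Subgroup G) ⊓ centralizer ((P : Subgroup G) : Set G)).map φ =
        (P : Subgroup G) ⊓ centralizer ((P : Subgroup G) : Set G) := by
      rw [map_inf_centralizer hi.injOn, hPi]
    set Z := (P : Subgroup G) ⊓ centralizer ((P : Subgroup G) : Set G) with hZdef
    have hZ : centralizer (Z : Set G) ≠ ⊤ := fun h => by
      have hZn : Z.Normal := normalizer_eq_top_iff.mp (top_le_iff.mp
        (h.ge.trans (centralizer_le_normalizer Z)))
      have hZt := htop _ hZn (center_ne_bot P.2 hPne) hZi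
      exact hpow p hp ((P.2.to_le (hZt ▸ (inf_le_left : Z ≤ (P : Subgroup G)))).of_equiv topEquiv)
    have hnilc : ∀ H : Subgroup G, H ≠ ⊤ → H.map φ = H → Cfsg.HasNormalPComplement p H := by
      intro H hH hHi
      haveI := ihsub H hH hHi
      refine Cfsg.Lib.Transfer.hasNormalPComplement_of_frobenius fun Q hQ g _ hg => ?_
      intro x hx
      obtain ⟨k, hk⟩ := IsPGroup.iff_orderOf.mp hQ ⟨x, hx⟩
      rw [Subgroup.orderOf_mk] at hk
      have hle : zpowers g ≤ centralizer ({x} : Set H) := by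
        refine Cfsg.Lib.Coprime.le_of_forall_sylow fun q hq => ?_
        haveI := Fact.mk hq
        obtain ⟨S⟩ : Nonempty (Sylow q (zpowers g)) := inferInstance
        refine ⟨S, ?_⟩
        rintro _ ⟨s, hs, rfl⟩
        obtain ⟨j, hj⟩ := IsPGroup.iff_orderOf.mp S.2 ⟨s, hs⟩
        rw [Subgroup.orderOf_mk, ← Subgroup.orderOf_coe] at hj
        rw [mem_centralizer_singleton_iff]
        by_cases hqp : q = p
        · subst hqp
          have hd : orderOf (s : H) ∣ orderOf g := by
            rw [← Nat.card_zpowers g, Subgroup.orderOf_coe]; exact orderOf_dvd_natCard s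
          have h1 : orderOf (s : H) = 1 :=
            Nat.eq_one_of_dvd_coprimes (hg.pow_right j) hd hj.dvd
          rw [Subgroup.coe_subtype, orderOf_eq_one_iff.mp h1]
          simp
        · exact (Cfsg.Lib.SolvStruct.commute_of_coprime_of_nilpotent hqp ⟨j, hj⟩ ⟨k, hk⟩).eq
      exact (mem_centralizer_singleton_iff.mp (hle (mem_zpowers g))).symm
    obtain ⟨N, hNn, hNc, k, hNk⟩ := Cfsg.Lib.Transfer.hasNormalPComplement_iff.mp
      (hasNormalPComplement_of_thompson hodd n G hG P
        ⟨hnilc _ hJ (map_normalizer_eq hi hJi), hnilc _ hZ (map_centralizer_eq hi hZi)⟩)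
    haveI := hNn
    have hNi : N.map φ = N := map_eq_of_le hi (by
      rintro _ ⟨x, hx, rfl⟩
      rw [Cfsg.Lib.Transfer.mem_iff_coprime_orderOf hNc hNk, orderOf_injective φ hi]
      exact (Cfsg.Lib.Transfer.mem_iff_coprime_orderOf hNc hNk x).mp hx)
    by_cases hNb : N = ⊥
    · exact hpow p hp (IsPGroup.of_card (n := k) (by rw [← hNk, hNb, index_bot]))
    · have hNt := htop N hNn hNb hNi
      rw [hNt, card_top] at hNc
      exact hp.coprime_iff_not_dvd.mp hNc.symm hpd

theorem isNilpotent_of_fpf [Finite G] (φ : G →* G) (hφ : FixedPointFree φ) {r : ℕ}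
    (hrp : r.Prime) (hr : φ^[r] = _root_.id) : Group.IsNilpotent G :=
  isNilpotent_of_fpf_aux hrp _ G rfl φ hφ hr

end Cfsg.Lib.Thompson
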