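import Cfsg.Prelude.Def_Transfer
import Cfsg.Agent.Coprime.Basic
import Mathlib.GroupTheory.PGroup
import Mathlib.GroupTheory.Sylow

/-!
Basic properties of the Thompson subgroup `J(P)` (elementary abelian version) inside a group.
-/

set_option autoImplicit false

namespace Cfsg.Lib.Thompson

universe u

variable {G G' : Type u} [Group G] [Group G'] {p : ℕ}

open Subgroup

/-- Elementary abelian subgroups of largest order inside `P`, as subgroups of `G`. -/
def IsMaxElem (p : ℕ) (P A : Subgroup G) : Prop :=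
  A ≤ P ∧ Cfsg.IsElementaryAbelian p A ∧
    ∀ B : Subgroup G, B ≤ P → Cfsg.IsElementaryAbelian p B → Nat.card B ≤ Nat.card A

theorem isElementaryAbelian_map_iff {f : G →* G'} {B : Subgroup G} (hf : Set.InjOn f B) :
    Cfsg.IsElementaryAbelian p (B.map f) ↔ Cfsg.IsElementaryAbelian p B := by
  constructor
  · rintro ⟨hc, hp⟩
    refine ⟨⟨⟨fun a b => Subtype.ext (hf (mul_mem a.2 b.2) (mul_mem b.2 a.2) ?_)⟩⟩, fun a ha =>
      hf (pow_mem ha p) (one_mem B) ?_⟩
    · simp only [Subgroup.coe_mul, map_mul]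
      exact congrArg Subtype.val (hc.is_comm.comm ⟨f a, mem_map_of_mem f a.2⟩ ⟨f b, mem_map_of_mem f b.2⟩)
    · rw [map_pow, map_one]; exact hp _ (mem_map_of_mem f ha)
  · rintro ⟨hc, hp⟩
    refine ⟨⟨⟨?_⟩⟩, ?_⟩
    · rintro ⟨_, a, ha, rfl⟩ ⟨_, b, hb, rfl⟩
      refine Subtype.ext ?_
      show f a * f b = f b * f a
      rw [← map_mul, ← map_mul]
      exact congrArg f (congrArg Subtype.val (hc.is_comm.comm ⟨a, ha⟩ ⟨b, hb⟩))
    · rintro _ ⟨a, ha, rfl⟩
      rw [← map_pow, hp a ha, map_one]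

theorem card_map_of_injOn {f : G →* G'} {B : Subgroup G} (hf : Set.InjOn f B) :
    Nat.card (B.map f) = Nat.card B := by
  have h : ((B.map f : Subgroup G') : Set G') = f '' (B : Set G) := coe_map f B
  show Nat.card ((B.map f : Subgroup G') : Set G') = Nat.card (B : Set G)
  rw [h, Nat.card_image_of_injOn hf]

theorem thompsonSubgroupOf_eq (P : Subgroup G) :
    Cfsg.thompsonSubgroupOf p P = sSup {A | IsMaxElem p P A} := by
  rw [Cfsg.thompsonSubgroupOf, Cfsg.thompsonSubgroup, (gc_map_comap P.subtype).l_sSup]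
  refine le_antisymm (iSup₂_le fun A hA => le_sSup ⟨map_subtype_le A,
    (isElementaryAbelian_map_iff P.subtype_injective.injOn).mpr hA.1, fun B hB hBe => ?_⟩)
    (sSup_le fun A hA => ?_)
  · rw [card_subtype, ← Nat.card_congr (subgroupOfEquivOfLe hB).toEquiv]
    exact hA.2 _ ((isElementaryAbelian_map_iff P.subtype_injective.injOn).mp
      (by rwa [map_subgroupOf_eq_of_le hB]))
  · refine le_trans (map_subgroupOf_eq_of_le hA.1).ge (le_iSup₂_of_le (A.subgroupOf P) ⟨?_, fun B hB => ?_⟩ le_rfl)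
    · exact (isElementaryAbelian_map_iff P.subtype_injective.injOn).mp
        (by rw [map_subgroupOf_eq_of_le hA.1]; exact hA.2.1)
    · rw [← card_subtype P B, Nat.card_congr (subgroupOfEquivOfLe hA.1).toEquiv]
      exact hA.2.2 _ (map_subtype_le B) ((isElementaryAbelian_map_iff P.subtype_injective.injOn).mpr hB)

theorem thompsonSubgroupOf_le (P : Subgroup G) : Cfsg.thompsonSubgroupOf p P ≤ P :=
  map_subtype_le _

theorem map_thompsonSubgroupOf {f : G →* G'} {P : Subgroup G} (hf : Set.InjOn f P) :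
    (Cfsg.thompsonSubgroupOf p P).map f = Cfsg.thompsonSubgroupOf p (P.map f) := by
  rw [thompsonSubgroupOf_eq, thompsonSubgroupOf_eq, (gc_map_comap f).l_sSup]
  have hpre : ∀ B : Subgroup G', B ≤ P.map f → (P ⊓ B.comap f).map f = B := fun B hB =>
    le_antisymm (map_le_iff_le_comap.mpr inf_le_right) fun x hx => by
      obtain ⟨y, hy, rfl⟩ := hB hx
      exact ⟨y, ⟨hy, hx⟩, rfl⟩
  refine le_antisymm (iSup₂_le fun A hA => le_sSup ⟨map_mono hA.1,
    (isElementaryAbelian_map_iff (hf.mono hA.1)).mpr hA.2.1, fun B hB hBe => ?_⟩)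
    (sSup_le fun A hA => ?_)
  · rw [card_map_of_injOn (hf.mono hA.1), ← hpre B hB,
      card_map_of_injOn (hf.mono (inf_le_left : P ⊓ B.comap f ≤ P))]
    refine hA.2.2 _ inf_le_left ((isElementaryAbelian_map_iff (hf.mono ?_)).mp (by rw [hpre B hB]; exact hBe))
    exact (inf_le_left : P ⊓ B.comap f ≤ P)
  · have hi : Set.InjOn f (P ⊓ A.comap f : Subgroup G) :=
      hf.mono (inf_le_left : P ⊓ A.comap f ≤ P)
    refine le_trans (hpre A hA.1).ge (le_iSup₂_of_le (P ⊓ A.comap f) ⟨inf_le_left, ?_, fun B hB hBe => ?_⟩ le_rfl)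
    · exact (isElementaryAbelian_map_iff hi).mp (by rw [hpre A hA.1]; exact hA.2.1)
    · rw [← card_map_of_injOn (hf.mono hB), ← card_map_of_injOn hi, hpre A hA.1]
      exact hA.2.2 _ (map_mono hB) ((isElementaryAbelian_map_iff (hf.mono hB)).mpr hBe)

theorem normalizer_le_normalizer_thompson (P : Subgroup G) :
    normalizer (P : Set G) ≤ normalizer (Cfsg.thompsonSubgroupOf p P : Set G) := by
  intro g hg
  rw [← Cfsg.Lib.Coprime.conjMap_eq_self_iff] at hg ⊢
  show (Cfsg.thompsonSubgroupOf p P).map (MulAut.conj g).toMonoidHom = _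
  rw [map_thompsonSubgroupOf (f := (MulAut.conj g).toMonoidHom) (MulAut.conj g).injective.injOn]
  exact congrArg (Cfsg.thompsonSubgroupOf p) hg

theorem exists_isMaxElem [Finite G] (P : Subgroup G) : ∃ A, IsMaxElem p P A := by
  classical
  have hb : Cfsg.IsElementaryAbelian p (⊥ : Subgroup G) :=
    ⟨⟨⟨fun a b => Subsingleton.elim _ _⟩⟩, fun a ha => by rw [mem_bot.mp ha, one_pow]⟩
  obtain ⟨A, ⟨hAP, hA⟩, hmax⟩ := Set.exists_max_image
    {A : Subgroup G | A ≤ P ∧ Cfsg.IsElementaryAbelian p A} (fun A => Nat.card A) (Set.toFinite _)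
    ⟨⊥, bot_le, hb⟩
  exact ⟨A, hAP, hA, fun B hB hBe => hmax B ⟨hB, hBe⟩⟩

theorem thompsonSubgroupOf_ne_bot [Finite G] [hp : Fact p.Prime] {P : Subgroup G} (hP : IsPGroup p P)
    (hne : P ≠ ⊥) : Cfsg.thompsonSubgroupOf p P ≠ ⊥ := by
  obtain ⟨A, hA⟩ := exists_isMaxElem (p := p) P
  haveI : Nontrivial P := (nontrivial_iff_ne_bot _).mpr hne
  obtain ⟨m, hm0, hm⟩ := hP.nontrivial_iff_card.mp inferInstance
  obtain ⟨⟨x, hxP⟩, hx⟩ := exists_prime_orderOf_dvd_card' (G := P) p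
    (by rw [hm]; exact dvd_pow_self p (by omega))
  rw [Subgroup.orderOf_mk] at hx
  have hle := hA.2.2 (zpowers x) (zpowers_le.mpr hxP) ⟨inferInstance, fun a ha => by
    obtain ⟨k, rfl⟩ := mem_zpowers_iff.mp ha
    rw [← zpow_natCast, ← zpow_mul, mul_comm, zpow_mul, zpow_natCast, ← hx, pow_orderOf_eq_one,
      one_zpow]⟩
  rw [Nat.card_zpowers, hx] at hle
  intro h
  have hAle : A ≤ ⊥ := h ▸ (thompsonSubgroupOf_eq P ▸ le_sSup hA)
  rw [le_bot_iff.mp hAle, card_bot] at hle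
  exact absurd hle (not_le.mpr hp.out.one_lt)

end Cfsg.Lib.Thompson
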