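import Cfsg.Agent.Thompson.Quadratic
import Cfsg.Agent.Thompson.Subgroup
import Cfsg.Agent.Transfer.Frobenius
import Cfsg.Agent.Coprime.Sylow
import Cfsg.Agent.Coprime.Hall

/-!
Thompson's normal `p`-complement theorem for odd `p`: if `N(J(P))` and `C(Z(P))` have normal
`p`-complements then so has `G`.
-/

set_option autoImplicit false
set_option linter.unusedSectionVars false

namespace Cfsg.Lib.Thompson

open Subgroup
open scoped commutatorElement

universe u

variable {G : Type u} [Group G] {p : ℕ} [hp : Fact p.Prime]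

/-- The two hypotheses of Thompson's theorem. -/
def Hyp (p : ℕ) (P : Subgroup G) : Prop :=
  Cfsg.HasNormalPComplement p ↥(normalizer (Cfsg.thompsonSubgroupOf p P : Set G)) ∧
    Cfsg.HasNormalPComplement p
      ↥(centralizer ((P ⊓ centralizer (P : Set G) : Subgroup G) : Set G))

theorem hasNormalPComplement_of_le [Finite G] {H K : Subgroup G} (h : H ≤ K)
    (hK : Cfsg.HasNormalPComplement p K) : Cfsg.HasNormalPComplement p H :=
  Cfsg.Lib.Transfer.hasNormalPComplement_of_injective (inclusion h) (inclusion_injective h) hK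

theorem map_inf_centralizer {G' : Type u} [Group G'] {f : G →* G'} {P : Subgroup G}
    (hf : Set.InjOn f P) :
    (P ⊓ centralizer (P : Set G)).map f = P.map f ⊓ centralizer (P.map f : Set G') := by
  refine le_antisymm ?_ ?_
  · rintro _ ⟨x, ⟨hx, hxc⟩, rfl⟩
    refine ⟨mem_map_of_mem f hx, mem_centralizer_iff.mpr ?_⟩
    rintro _ ⟨y, hy, rfl⟩
    rw [← map_mul, mem_centralizer_iff.mp hxc y hy, map_mul]
  · rintro _ ⟨⟨x, hx, rfl⟩, hc⟩
    refine mem_map_of_mem f ⟨hx, mem_centralizer_iff.mpr fun y hy => ?_⟩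
    exact hf (mul_mem hy hx) (mul_mem hx hy)
      (by rw [map_mul, map_mul]; exact mem_centralizer_iff.mp hc _ (mem_map_of_mem f hy))

theorem hyp_of_hom {H : Type u} [Group H] [Finite G] {f : H →* G} (hf : Function.Injective f)
    {S : Subgroup H} (h : Hyp p (S.map f)) : Hyp p S := by
  haveI : Finite H := Finite.of_injective f hf
  have h1 : ∀ x ∈ normalizer (Cfsg.thompsonSubgroupOf p S : Set H),
      f x ∈ normalizer (Cfsg.thompsonSubgroupOf p (S.map f) : Set G) := fun x hx => by
    rw [← map_thompsonSubgroupOf hf.injOn]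
    exact le_normalizer_map f (mem_map_of_mem f hx)
  have h2 : ∀ x ∈ centralizer ((S ⊓ centralizer (S : Set H) : Subgroup H) : Set H),
      f x ∈ centralizer ((S.map f ⊓ centralizer (S.map f : Set G) : Subgroup G) : Set G) := by
    intro x hx
    rw [← map_inf_centralizer hf.injOn, mem_centralizer_iff]
    rintro _ ⟨y, hy, rfl⟩
    rw [← map_mul, mem_centralizer_iff.mp hx y hy, map_mul]
  refine ⟨Cfsg.Lib.Transfer.hasNormalPComplement_of_injective
      (MonoidHom.mk' (fun x => ⟨f x.1, h1 x.1 x.2⟩) fun a b => Subtype.ext (map_mul f _ _)) (fun a b hab => ?_) h.1,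
    Cfsg.Lib.Transfer.hasNormalPComplement_of_injective
      (MonoidHom.mk' (fun x => ⟨f x.1, h2 x.1 x.2⟩) fun a b => Subtype.ext (map_mul f _ _)) (fun a b hab => ?_) h.2⟩
  · exact Subtype.ext (hf (congrArg Subtype.val hab))
  · exact Subtype.ext (hf (congrArg Subtype.val hab))

theorem hyp_sylow [Finite G] {P : Sylow p G} (h : Hyp p (P : Subgroup G)) (Q : Sylow p G) :
    Hyp p (Q : Subgroup G) := by
  obtain ⟨g, hg⟩ := MulAction.exists_smul_eq G Q P
  refine hyp_of_hom (f := (MulAut.conj g).toMonoidHom) (MulAut.conj g).injective ?_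
  rwa [← Cfsg.Lib.Transfer.sylow_smul_coe, hg]

/-- The `p`-part of the order. -/
noncomputable def pp (p : ℕ) (X : Subgroup G) : ℕ := p ^ (Nat.card X).factorization p

theorem card_le_pp [Finite G] {Q X : Subgroup G} (hQ : IsPGroup p Q) (h : Q ≤ X) :
    Nat.card Q ≤ pp p X := by
  obtain ⟨n, hn⟩ := IsPGroup.iff_card.mp hQ
  rw [hn, pp]
  refine Nat.pow_le_pow_right hp.out.pos ?_
  exact (hp.out.pow_dvd_iff_le_factorization Nat.card_pos.ne').mp (hn ▸ card_dvd_of_le h)

theorem pp_le [Finite G] (X : Subgroup G) : pp p X ≤ p ^ (Nat.card G).factorization p :=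
  Nat.pow_le_pow_right hp.out.pos
    ((Nat.factorization_le_iff_dvd Nat.card_pos.ne' Nat.card_pos.ne').mpr (card_subgroup_dvd_card X) p)

theorem le_sylow_of_normal [Finite G] {U : Subgroup G} [hn : U.Normal] (hU : IsPGroup p U)
    (P : Sylow p G) : U ≤ (P : Subgroup G) := by
  obtain ⟨Q, hQ⟩ := hU.exists_le_sylow
  obtain ⟨g, rfl⟩ := MulAction.exists_smul_eq G Q P
  intro x hx
  rw [Cfsg.Lib.Transfer.sylow_smul_coe, Cfsg.Lib.Transfer.mem_map_conj]
  exact hQ (by simpa using hn.conj_mem x hx g⁻¹)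

theorem center_ne_bot [Finite G] {P : Subgroup G} (hP : IsPGroup p P) (hne : P ≠ ⊥) :
    P ⊓ centralizer (P : Set G) ≠ ⊥ := by
  haveI : Nontrivial P := (nontrivial_iff_ne_bot _).mpr hne
  haveI := hP.center_nontrivial
  obtain ⟨⟨z, hz⟩, hz1⟩ := exists_ne (1 : Subgroup.center P)
  intro h
  refine hz1 (Subtype.ext (Subtype.ext ?_))
  have : (z : G) ∈ P ⊓ centralizer (P : Set G) := ⟨z.2, mem_centralizer_iff.mpr fun y hy =>
    congrArg Subtype.val (mem_center_iff.mp hz ⟨y, hy⟩)⟩
  rwa [h, mem_bot] at this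

theorem normalizer_le_normalizer_centralizer (P : Subgroup G) :
    normalizer (P : Set G) ≤ normalizer (centralizer (P : Set G) : Set G) := by
  have hf : ∀ g ∈ normalizer (P : Set G), ∀ z ∈ centralizer (P : Set G),
      g * z * g⁻¹ ∈ centralizer (P : Set G) := by
    intro g hg z hz
    rw [mem_centralizer_iff] at hz ⊢
    intro y hy
    have hy' : g⁻¹ * y * g ∈ P := (mem_normalizer_iff''.mp hg y).mp hy
    calc y * (g * z * g⁻¹) = g * ((g⁻¹ * y * g) * z) * g⁻¹ := by group
      _ = g * z * g⁻¹ * y := by rw [hz _ hy']; group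
  intro g hg
  rw [mem_normalizer_iff]
  refine fun z => ⟨hf g hg z, fun hz => ?_⟩
  simpa [mul_assoc] using hf g⁻¹ (inv_mem hg) _ hz

theorem normalizer_le_normalizer_center (P : Subgroup G) :
    normalizer (P : Set G) ≤ normalizer ((P ⊓ centralizer (P : Set G) : Subgroup G) : Set G) :=
  Cfsg.Lib.Coprime.le_normalizer_inf le_rfl (normalizer_le_normalizer_centralizer P)

theorem centralizer_le_normalizer (Z : Subgroup G) :
    centralizer (Z : Set G) ≤ normalizer (Z : Set G) :=
  fun g hg => mem_normalizer_iff.mpr fun y => by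
    refine ⟨fun hy => ?_, fun hy => ?_⟩
    · rwa [← mem_centralizer_iff.mp hg y hy, mul_inv_cancel_right]
    · have h1 := mem_centralizer_iff.mp hg _ hy
      have h2 : g * (g * y * g⁻¹) * g⁻¹ = g * y * g⁻¹ := by rw [← h1, mul_inv_cancel_right]
      have h3 : g * y * g⁻¹ = y := by
        have := congrArg (fun t => g⁻¹ * t * g) h2
        simpa [mul_assoc] using this
      rwa [h3] at hy

/-- A subgroup over a self-centralising normal `p`-subgroup with a normal `p`-complement is a
`p`-group. -/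
theorem isPGroup_of_hasNormalPComplement [Finite G] {U H : Subgroup G} [hn : U.Normal]
    (hU : IsPGroup p U) (hCU : centralizer (U : Set G) ≤ U) (hUH : U ≤ H)
    (hH : Cfsg.HasNormalPComplement p H) : IsPGroup p H := by
  obtain ⟨N, hN, hc, k, hk⟩ := Cfsg.Lib.Transfer.hasNormalPComplement_iff.mp hH
  obtain ⟨m, hm⟩ := IsPGroup.iff_card.mp hU
  have hinf : ∀ z : H, z ∈ N → (z : G) ∈ U → z = 1 := fun z hzN hzU => by
    have h1 : orderOf z ∣ Nat.card N := by
      rw [← Subgroup.orderOf_mk z hzN]; exact orderOf_dvd_natCard _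
    have h2 : orderOf z ∣ p ^ m := by
      rw [← Subgroup.orderOf_coe, ← Subgroup.orderOf_mk (z : G) hzU, ← hm]
      exact orderOf_dvd_natCard _
    exact orderOf_eq_one_iff.mp (Nat.eq_one_of_dvd_coprimes (hc.pow_right m) h1 h2)
  have hNbot : N = ⊥ := by
    rw [eq_bot_iff_forall]
    intro r hr
    refine hinf r hr (hCU (mem_centralizer_iff.mpr fun u hu => ?_))
    have hcm : ⁅r, (⟨u, hUH hu⟩ : H)⁆ = 1 := by
      refine hinf _ ?_ ?_
      · rw [commutatorElement_def, mul_assoc, mul_assoc, ← mul_assoc (⟨u, hUH hu⟩ : H)]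
        exact mul_mem hr (hN.conj_mem _ (inv_mem hr) _)
      · simp only [commutatorElement_def, coe_mul, InvMemClass.coe_inv]
        exact mul_mem (hn.conj_mem u hu _) (inv_mem hu)
    exact (congrArg Subtype.val (commutatorElement_eq_one_iff_mul_comm.mp hcm)).symm
  refine IsPGroup.of_card (n := k) ?_
  rw [← hk, hNbot, index_bot]

/-- A `p'`-element normalising an abelian `p`-group centralises it if it centralises the elements
of order dividing `p`. -/
theorem commute_of_omega {U : Subgroup G} (hU : IsPGroup p U) [IsMulCommutative U]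
    {x : G} (hx : x ∈ normalizer (U : Set G)) (hcop : (orderOf x).Coprime p)
    (h : ∀ v ∈ U, v ^ p = 1 → x * v = v * x) : ∀ v ∈ U, x * v = v * x := by
  have key : ∀ n : ℕ, ∀ v ∈ U, v ^ (p ^ n) = 1 → x * v = v * x := by
    intro n
    induction n with
    | zero => intro v _ hv; simp only [pow_zero, pow_one] at hv; simp [hv]
    | succ n ih =>
      intro v hv hpow
      have h1 : x * v ^ p = v ^ p * x :=
        ih (v ^ p) (pow_mem hv p) (by rw [← pow_mul, ← pow_succ', hpow])
      have hv' : x * v * x⁻¹ ∈ U := (mem_normalizer_iff.mp hx v).mp hv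
      set d := x * v * x⁻¹ * v⁻¹ with hd
      have hdU : d ∈ U := mul_mem hv' (inv_mem hv)
      have hdp : d ^ p = 1 := by
        have hc : Commute (x * v * x⁻¹) v⁻¹ := congrArg Subtype.val
          (mul_comm' (⟨_, hv'⟩ : U) ⟨_, inv_mem hv⟩)
        rw [hd, hc.mul_pow, conj_pow, h1, mul_inv_cancel_right, inv_pow, mul_inv_cancel]
      have hdx : x * d * x⁻¹ = d := by rw [h d hdU hdp, mul_inv_cancel_right]
      have hit : ∀ j : ℕ, x ^ j * v * (x ^ j)⁻¹ = d ^ j * v := by
        intro j
        induction j with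
        | zero => simp
        | succ j ihj =>
          calc x ^ (j + 1) * v * (x ^ (j + 1))⁻¹ = x * (x ^ j * v * (x ^ j)⁻¹) * x⁻¹ := by
                rw [pow_succ']; group
            _ = (x * d ^ j * x⁻¹) * (x * v * x⁻¹) := by rw [ihj]; group
            _ = d ^ j * (d * v) := by rw [← conj_pow, hdx, hd, inv_mul_cancel_right]
            _ = d ^ (j + 1) * v := by rw [pow_succ]; exact (mul_assoc _ _ _).symm
      have h2 : d ^ orderOf x = 1 := by
        have := hit (orderOf x)
        simpa [pow_orderOf_eq_one] using this.symm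
      have h3 : d = 1 := orderOf_eq_one_iff.mp (Nat.eq_one_of_dvd_coprimes hcop
        (orderOf_dvd_of_pow_eq_one h2) (orderOf_dvd_of_pow_eq_one hdp))
      rw [hd, mul_inv_eq_one, mul_inv_eq_iff_eq_mul] at h3
      exact h3
  intro v hv
  obtain ⟨n, hn⟩ := hU ⟨v, hv⟩
  exact key n v hv (congrArg Subtype.val hn)

/-- The final contradiction: `J(P) ≤ U`. -/
theorem maxElem_le_of_faithful [Finite G] (hodd : p ≠ 2) {U : Subgroup G} [U.Normal]
    (hU : IsPGroup p U) {P : Sylow p G} (hUP : U ≤ (P : Subgroup G))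
    (hCU : centralizer (U : Set G) ≤ U)
    (hCZ : IsPGroup p
      ↥(centralizer (((P : Subgroup G) ⊓ centralizer ((P : Subgroup G) : Set G) : Subgroup G) : Set G)))
    (hmax : ∀ Q : Subgroup G, Q.Normal → IsPGroup p Q → U ≤ Q → Q = U)
    {K₀ : Subgroup (G ⧸ U)} [IsMulCommutative K₀] [K₀.Normal] (hK₀ : (Nat.card K₀).Coprime p)
    (hfaith : ∀ a ∈ (P : Subgroup G).map (QuotientGroup.mk' U),
      (∀ r ∈ K₀, a * r = r * a) → a = 1) :
    ∀ A, IsMaxElem p (P : Subgroup G) A → A ≤ U := by
  intro A hA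
  by_contra hAU
  let V : Subgroup G :=
    { carrier := {x | x ∈ U ⊓ centralizer (U : Set G) ∧ x ^ p = 1}
      one_mem' := ⟨one_mem _, one_pow p⟩
      mul_mem' := fun {a b} ha hb => ⟨mul_mem ha.1 hb.1, by
        have hc : Commute a b := mem_centralizer_iff.mp hb.1.2 a ha.1.1
        rw [hc.mul_pow, ha.2, hb.2, one_mul]⟩
      inv_mem' := fun {a} ha => ⟨inv_mem ha.1, by rw [inv_pow, ha.2, inv_one]⟩ }
  have hVU : V ≤ U := fun x hx => hx.1.1
  haveI hZUn : (U ⊓ centralizer (U : Set G)).Normal := inferInstance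
  haveI hVn : V.Normal := ⟨fun x hx g =>
    ⟨hZUn.conj_mem x hx.1 g, by rw [conj_pow, hx.2, mul_one, mul_inv_cancel]⟩⟩
  haveI hVc : IsMulCommutative V :=
    ⟨⟨fun a b => Subtype.ext (mem_centralizer_iff.mp b.2.1.2 a a.2.1.1)⟩⟩
  haveI hUc : IsMulCommutative (U ⊓ centralizer (U : Set G) : Subgroup G) :=
    ⟨⟨fun a b => Subtype.ext (mem_centralizer_iff.mp b.2.2 a a.2.1)⟩⟩
  have hVker : centralizer (V : Set G) = U := by
    haveI : (centralizer (V : Set G)).Normal := inferInstance
    refine hmax _ inferInstance ?_ fun x hx => mem_centralizer_iff.mpr fun v hv => ?_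
    · intro g
      obtain ⟨a, b, ha, hb, hab, ⟨k, hk⟩, hcop⟩ := Cfsg.Lib.Transfer.exists_pPart p (g : G)
      have hbV : b ∈ centralizer (V : Set G) := (zpowers_le.mpr g.2) hb
      have hb1 : b = 1 := by
        have hbz := commute_of_omega (U := U ⊓ centralizer (U : Set G)) (hU.to_le inf_le_left)
          (by rw [normalizer_eq_top]; exact mem_top b) hcop
          (fun v hv hvp => (mem_centralizer_iff.mp hbV v ⟨hv, hvp⟩).symm)
        have hbC : b ∈ centralizer
            (((P : Subgroup G) ⊓ centralizer ((P : Subgroup G) : Set G) : Subgroup G) : Set G) := by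
          refine mem_centralizer_iff.mpr fun z hz => (hbz z ?_).symm
          have h1 : z ∈ centralizer (U : Set G) := centralizer_le hUP hz.2
          exact ⟨hCU h1, h1⟩
        obtain ⟨j, hj⟩ := IsPGroup.iff_orderOf.mp hCZ ⟨b, hbC⟩
        rw [Subgroup.orderOf_mk] at hj
        exact orderOf_eq_one_iff.mp (Nat.eq_one_of_dvd_coprimes (hcop.pow_right j) dvd_rfl hj.dvd)
      refine ⟨k, Subtype.ext ?_⟩
      rw [SubmonoidClass.coe_pow, OneMemClass.coe_one, ← hab, hb1, mul_one, ← hk,
        pow_orderOf_eq_one]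
    · exact (mem_centralizer_iff.mp hv.1.2 x hx).symm
  letI : CommGroup V := { (inferInstance : Group V) with mul_comm := mul_comm' }
  let φ : G →* AddMonoid.End (Additive V) :=
    { toFun := fun g => MonoidHom.toAdditive (MulAut.conjNormal (H := V) g).toMonoidHom
      map_one' := AddMonoidHom.ext fun v => by
        show Additive.ofMul (MulAut.conjNormal 1 v.toMul) = v
        rw [map_one]; rfl
      map_mul' := fun a b => AddMonoidHom.ext fun v => by
        show Additive.ofMul (MulAut.conjNormal (a * b) v.toMul) =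
          Additive.ofMul (MulAut.conjNormal a (MulAut.conjNormal b v.toMul))
        rw [map_mul]; rfl }
  have hUφ : U ≤ φ.ker := fun g hg => by
    rw [MonoidHom.mem_ker]
    refine AddMonoidHom.ext fun v => ?_
    show Additive.ofMul (MulAut.conjNormal g v.toMul) = v
    refine congrArg Additive.ofMul (a₂ := v.toMul) (Subtype.ext ?_)
    rw [MulAut.conjNormal_apply, mem_centralizer_iff.mp v.toMul.2.1.2 g hg, mul_inv_cancel_right]
  let ρ : G ⧸ U →* AddMonoid.End (Additive V) := QuotientGroup.lift U φ hUφ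
  have hinj : Function.Injective ρ := by
    rw [injective_iff_map_eq_one]
    intro x
    induction x using QuotientGroup.induction_on with
    | _ g =>
      intro hg
      rw [QuotientGroup.eq_one_iff, ← hVker]
      refine mem_centralizer_iff.mpr fun v hv => ?_
      have h1 : ρ (QuotientGroup.mk g) (Additive.ofMul ⟨v, hv⟩) = Additive.ofMul ⟨v, hv⟩ := by
        rw [hg]; rfl
      have h2 : g * v * g⁻¹ = v := by
        have := congrArg (fun t : Additive V => ((t.toMul : V) : G)) h1
        exact this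
      conv_lhs => rw [← h2]
      group
  haveI : Finite (Additive V) := Finite.of_equiv V Additive.ofMul
  have hM : ∀ x : Additive V, p • x = 0 := fun x =>
    congrArg Additive.ofMul (Subtype.ext (x.toMul.2.2) : x.toMul ^ p = 1)
  set f := QuotientGroup.mk' U with hf
  let Ā := A.map f
  obtain ⟨hAc, hAp⟩ := hA.2.1
  haveI := hAc
  haveI : IsMulCommutative Ā := Subgroup.map_isMulCommutative A f
  have hne : Ā ≠ ⊥ := fun h => hAU fun a ha => (QuotientGroup.eq_one_iff a).mp
    (mem_bot.mp (h ▸ mem_map_of_mem f ha))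
  have key := mul_card_le_index ρ hodd hinj hM (Q := K₀) hK₀ (A := Ā)
    (by rintro _ ⟨a, ha, rfl⟩; rw [← map_pow, hAp a ha, map_one])
    (by rw [normalizer_eq_top]; exact le_top) hne
    (fun a ha => hfaith a (map_mono hA.1 ha))
  have h1 : (fixed ρ Ā).index ≤ A.relIndex V := by
    rw [relIndex, ← index_toAddSubgroup]
    refine Nat.le_of_dvd (Nat.pos_of_ne_zero AddSubgroup.index_ne_zero_of_finite)
      (AddSubgroup.index_dvd_of_le ?_)
    intro v hv
    rintro _ ⟨a, ha, rfl⟩
    show Additive.ofMul (MulAut.conjNormal a v.toMul) = v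
    refine congrArg Additive.ofMul (a₂ := v.toMul) (Subtype.ext ?_)
    rw [MulAut.conjNormal_apply,
      show a * ((v.toMul : V) : G) = ((v.toMul : V) : G) * a from
        congrArg Subtype.val (mul_comm' (⟨a, ha⟩ : A) ⟨((v.toMul : V) : G), hv⟩),
      mul_inv_cancel_right]
  have h2 : Nat.card ↥(A ⊓ U) * Nat.card Ā = Nat.card A := by
    have h := relIndex_mul_relIndex ⊥ (A ⊓ U) A bot_le inf_le_left
    rw [relIndex_bot_left, relIndex_bot_left, inf_comm, inf_relIndex_right] at h
    rw [← h, inf_comm U A]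
    congr 1
    have h' := relIndex_ker (K := A) f
    rw [QuotientGroup.ker_mk'] at h'
    exact h'.symm
  have hel : Cfsg.IsElementaryAbelian p (V ⊔ A ⊓ U) := by
    have hle : V ⊔ A ⊓ U ≤ centralizer ((V ⊔ A ⊓ U : Subgroup G) : Set G) := by
      refine le_centralizer_iff.mpr (sup_le ?_ ?_) <;>
        refine le_centralizer_iff.mpr (sup_le ?_ ?_)
      · exact fun a ha => mem_centralizer_iff.mpr fun b hb => mem_centralizer_iff.mp ha.1.2 b hb.1.1
      · exact fun a ha => mem_centralizer_iff.mpr fun b hb =>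
          (mem_centralizer_iff.mp hb.1.2 a ha.2).symm
      · exact fun a ha => mem_centralizer_iff.mpr fun b hb => mem_centralizer_iff.mp ha.1.2 b hb.2
      · exact fun a ha => mem_centralizer_iff.mpr fun b hb =>
          congrArg Subtype.val (mul_comm' (⟨b, hb.1⟩ : A) ⟨a, ha.1⟩)
    refine ⟨⟨⟨fun a b => Subtype.ext (mem_centralizer_iff.mp (hle b.2) a a.2)⟩⟩, fun x hx => ?_⟩
    obtain ⟨v, hv, a, ha, rfl⟩ := mem_sup_of_normal_left.mp hx
    have hc : Commute v a := (mem_centralizer_iff.mp hv.1.2 a ha.2).symm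
    rw [hc.mul_pow, hv.2, hAp a ha.1, one_mul]
  have h3 : Nat.card ↥(A ⊓ U) * A.relIndex V ≤ Nat.card A := by
    have hs := Cfsg.Lib.Coprime.card_sup_mul_card_inf (N := V) (H := A ⊓ U)
      (le_normalizer_of_normal)
    have he : V ⊓ (A ⊓ U) = A ⊓ V :=
      le_antisymm (le_inf (inf_le_right.trans inf_le_left) inf_le_left)
        (le_inf inf_le_right (le_inf inf_le_left (inf_le_right.trans hVU)))
    have hv := relIndex_mul_relIndex ⊥ (A ⊓ V) V bot_le inf_le_right
    rw [relIndex_bot_left, relIndex_bot_left, inf_relIndex_right] at hv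
    rw [he, ← hv] at hs
    refine le_trans (le_of_eq ?_) (hA.2.2 _ (sup_le (hVU.trans hUP) (inf_le_left.trans hA.1)) hel)
    refine Nat.eq_of_mul_eq_mul_right (Nat.card_pos (α := ↥(A ⊓ V))) ?_
    rw [hs]; ring
  have h4 : A.relIndex V ≤ Nat.card Ā :=
    Nat.le_of_mul_le_mul_left (h2 ▸ h3) Nat.card_pos
  have h5 : 2 * Nat.card Ā ≤ Nat.card Ā :=
    (Nat.mul_le_mul_right _ hp.out.two_le).trans (key.trans (h1.trans h4))
  have h6 : 0 < Nat.card Ā := Nat.card_pos
  omega

/-- **Thompson's normal `p`-complement theorem.** -/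
theorem hasNormalPComplement_of_thompson (hodd : p ≠ 2) (n : ℕ) :
    ∀ (G : Type u) [Group G] [Finite G], Nat.card G = n → ∀ P : Sylow p G,
      Hyp p (P : Subgroup G) → Cfsg.HasNormalPComplement p G := by
  induction n using Nat.strong_induction_on with
  | _ n ih =>
  intro G _ _ hG P hP
  by_contra hno
  have ihsub : ∀ (H : Subgroup G), H ≠ ⊤ → ∀ S : Sylow p H, Hyp p (S : Subgroup H) →
      Cfsg.HasNormalPComplement p H := fun H hH S hS =>
    ih (Nat.card H) (hG ▸ lt_of_le_of_ne (card_le_card_group H)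
      (fun h => hH (H.eq_top_of_card_eq h))) H rfl S hS
  obtain ⟨U₁, hU₁, hU₁ne, hU₁no⟩ : ∃ U : Subgroup G, IsPGroup p U ∧ U ≠ ⊥ ∧
      ¬ Cfsg.HasNormalPComplement p ↥(normalizer (U : Set G)) := by
    by_contra h
    push Not at h
    exact hno (Cfsg.Lib.Transfer.hasNormalPComplement_of_normalizers h)
  let μ : Subgroup G → ℕ := fun U => pp p (normalizer (U : Set G)) * (Nat.card G + 1) + Nat.card U
  obtain ⟨U, ⟨hU, hUne, hUno⟩, hUmax⟩ := Set.exists_max_image
    {U : Subgroup G | IsPGroup p U ∧ U ≠ ⊥ ∧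
      ¬ Cfsg.HasNormalPComplement p ↥(normalizer (U : Set G))} μ (Set.toFinite _)
    ⟨U₁, hU₁, hU₁ne, hU₁no⟩
  have hbig : ∀ Q : Subgroup G, IsPGroup p Q → Q ≠ ⊥ →
      (pp p (normalizer (U : Set G)) < pp p (normalizer (Q : Set G)) ∨
        (pp p (normalizer (U : Set G)) ≤ pp p (normalizer (Q : Set G)) ∧
          Nat.card U < Nat.card Q)) →
      Cfsg.HasNormalPComplement p ↥(normalizer (Q : Set G)) := by
    intro Q hQ hQne h
    by_contra hQno
    have hle : μ Q ≤ μ U := hUmax Q ⟨hQ, hQne, hQno⟩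
    have hUG : Nat.card U ≤ Nat.card G := card_le_card_group U
    simp only [μ] at hle
    rcases h with h | ⟨h, h'⟩
    · have := Nat.mul_le_mul_right (Nat.card G + 1) h
      rw [Nat.succ_mul] at this
      omega
    · have := Nat.mul_le_mul_right (Nat.card G + 1) h
      omega
  have hUnorm : normalizer (U : Set G) = ⊤ := by
    by_contra hN
    set N := normalizer (U : Set G) with hNdef
    obtain ⟨S₀⟩ : Nonempty (Sylow p N) := inferInstance
    set S := (S₀ : Subgroup N).map N.subtype with hSdef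
    have hS : IsPGroup p S := S₀.2.map _
    obtain ⟨P', hP'⟩ := hS.exists_le_sylow
    have hH := hyp_sylow hP P'
    have hUS : U ≤ S := by
      haveI : (U.subgroupOf N).Normal := normal_in_normalizer
      intro x hx
      exact ⟨⟨x, le_normalizer hx⟩,
        le_sylow_of_normal (U := U.subgroupOf N) hU.comap_subtype S₀ hx, rfl⟩
    refine hUno (ihsub N hN S₀ (hyp_of_hom N.subtype_injective ?_))
    rcases eq_or_lt_of_le hP' with h | h
    · rw [← hSdef, h]; exact hH
    have hSne : S ≠ ⊥ := fun h' => hUne (le_bot_iff.mp (h' ▸ hUS))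
    set S' := (P' : Subgroup G) ⊓ normalizer (S : Set G) with hS'
    have hlt : Nat.card S < Nat.card S' := lt_of_not_ge fun hle =>
      (Cfsg.Lib.Transfer.lt_inf_normalizer_of_lt P' h).ne
        (eq_of_le_of_card_ge (Cfsg.Lib.Transfer.lt_inf_normalizer_of_lt P' h).le hle)
    have hppS : pp p N = Nat.card S := by
      rw [hSdef, card_subtype, S₀.card_eq_multiplicity]; rfl
    have hcompl : ∀ Q : Subgroup G, Q ≤ S → Q ≠ ⊥ →
        normalizer (S : Set G) ≤ normalizer (Q : Set G) →
        Cfsg.HasNormalPComplement p ↥(normalizer (Q : Set G)) := fun Q hQS hQne hNQ =>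
      hbig Q (hS.to_le hQS) hQne (Or.inl (by
        rw [hppS]
        exact hlt.trans_le (card_le_pp (P'.2.to_le inf_le_left) (inf_le_right.trans hNQ))))
    exact ⟨hcompl _ (thompsonSubgroupOf_le S) (thompsonSubgroupOf_ne_bot hS hSne)
        (normalizer_le_normalizer_thompson S),
      hasNormalPComplement_of_le (centralizer_le_normalizer _)
        (hcompl _ inf_le_left (center_ne_bot hS hSne) (normalizer_le_normalizer_center S))⟩
  haveI hUn : U.Normal := normalizer_eq_top_iff.mp hUnorm
  have hUP : U ≤ (P : Subgroup G) := le_sylow_of_normal hU P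
  have hbig' : ∀ Q : Subgroup G, IsPGroup p Q → U < Q →
      (P : Subgroup G) ≤ normalizer (Q : Set G) →
      Cfsg.HasNormalPComplement p ↥(normalizer (Q : Set G)) := fun Q hQ hUQ hPQ =>
    hbig Q hQ (ne_bot_of_gt hUQ) (Or.inr ⟨by
      refine le_trans (pp_le _) (le_trans (le_of_eq P.card_eq_multiplicity.symm)
        (card_le_pp P.2 hPQ)),
      lt_of_not_ge fun hle => hUQ.ne (eq_of_le_of_card_ge hUQ.le hle)⟩)
  have hmax : ∀ Q : Subgroup G, Q.Normal → IsPGroup p Q → U ≤ Q → Q = U := by
    intro Q hQn hQ hUQ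
    by_contra hne
    refine hno ?_
    have h := hbig' Q hQ (lt_of_le_of_ne hUQ (Ne.symm hne)) (by rw [normalizer_eq_top]; exact le_top)
    rw [normalizer_eq_top] at h
    exact (Cfsg.Lib.Transfer.hasNormalPComplement_congr topEquiv).mp h
  have hJtop : normalizer (Cfsg.thompsonSubgroupOf p (P : Subgroup G) : Set G) ≠ ⊤ := fun h => by
    have h1 := hP.1
    rw [h] at h1
    exact hno ((Cfsg.Lib.Transfer.hasNormalPComplement_congr topEquiv).mp h1)
  have hUPne : U ≠ (P : Subgroup G) := fun h => hJtop (top_le_iff.mp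
    (hUnorm.ge.trans (by rw [h]; exact normalizer_le_normalizer_thompson _)))
  -- the quotient by `U` has a normal p-complement
  set f := QuotientGroup.mk' U with hfdef
  have hfs : Function.Surjective f := QuotientGroup.mk'_surjective U
  let P' : Sylow p (G ⧸ U) := P.mapSurjective hfs
  have hP'e : (P' : Subgroup (G ⧸ U)) = (P : Subgroup G).map f := P.coe_mapSurjective hfs
  have hcomapP : ((P : Subgroup G).map f).comap f = P :=
    comap_map_eq_self (by rwa [hfdef, QuotientGroup.ker_mk'])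
  have hP'ne : (P' : Subgroup (G ⧸ U)) ≠ ⊥ := fun h => hUPne (by
    rw [← hcomapP, ← hP'e, h, MonoidHom.comap_bot, hfdef, QuotientGroup.ker_mk'])
  have hquot : ∀ Q : Subgroup (G ⧸ U), Q ≠ ⊥ → Q ≤ P' →
      (P' : Subgroup (G ⧸ U)) ≤ normalizer (Q : Set (G ⧸ U)) →
      Cfsg.HasNormalPComplement p ↥(normalizer (Q : Set (G ⧸ U))) := by
    intro Q hQne hQP hPQ
    have hX1 : Q.comap f ≤ (P : Subgroup G) := by
      rw [← hcomapP, ← hP'e]; exact comap_mono hQP
    have hUX : U < Q.comap f := by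
      refine lt_of_le_of_ne ?_ fun h => hQne ?_
      · exact (QuotientGroup.ker_mk' U).ge.trans (ker_le_comap f Q)
      · rw [← map_comap_eq_self_of_surjective hfs Q, ← h, hfdef, QuotientGroup.map_mk'_self]
    have hnX : normalizer ((Q.comap f : Subgroup G) : Set G) =
        (normalizer (Q : Set (G ⧸ U))).comap f :=
      (comap_normalizer_eq_of_surjective Q hfs).symm
    have h := hbig' _ (P.2.to_le hX1) hUX (by
      rw [hnX, ← map_le_iff_le_comap, ← hP'e]; exact hPQ)
    refine Cfsg.Lib.Transfer.hasNormalPComplement_of_surjective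
      (MonoidHom.mk' (fun x => (⟨f x.1, mem_comap.mp (hnX ▸ x.2)⟩ : normalizer (Q : Set (G ⧸ U))))
        fun a b => Subtype.ext (map_mul f _ _)) ?_ h
    · rintro ⟨y, hy⟩
      obtain ⟨x, rfl⟩ := hfs y
      refine ⟨⟨x, ?_⟩, rfl⟩
      rw [hnX]; exact hy
  have hlt : Nat.card (G ⧸ U) < n := by
    rw [← hG, card_eq_card_quotient_mul_card_subgroup U]
    exact lt_mul_of_one_lt_right Nat.card_pos ((one_lt_card_iff_ne_bot _).mpr hUne)
  obtain ⟨K₀, hK₀n, hK₀c, k, hK₀k⟩ := Cfsg.Lib.Transfer.hasNormalPComplement_iff.mp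
    (ih _ hlt (G ⧸ U) rfl P'
      ⟨hquot _ (thompsonSubgroupOf_ne_bot P'.2 hP'ne) (thompsonSubgroupOf_le _)
          (le_normalizer.trans (normalizer_le_normalizer_thompson _)),
        hasNormalPComplement_of_le (centralizer_le_normalizer _)
          (hquot _ (center_ne_bot P'.2 hP'ne) inf_le_left
            (le_normalizer.trans (normalizer_le_normalizer_center _)))⟩)
  haveI := hK₀n
  -- no nontrivial normal `p'`-subgroup
  have hO : ∀ M : Subgroup G, M.Normal → (Nat.card M).Coprime p → M = ⊥ := by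
    intro M hMn hMc
    by_contra hMne
    refine hno ?_
    set g := QuotientGroup.mk' M with hgdef
    have hgs : Function.Surjective g := QuotientGroup.mk'_surjective M
    let PM : Sylow p (G ⧸ M) := P.mapSurjective hgs
    have hPMe : (PM : Subgroup (G ⧸ M)) = (P : Subgroup G).map g := P.coe_mapSurjective hgs
    have hinf : ∀ x : G, x ∈ (P : Subgroup G) → x ∈ M → x = 1 := fun x h1 h2 => by
      obtain ⟨j, hj⟩ := IsPGroup.iff_orderOf.mp P.2 ⟨x, h1⟩
      rw [Subgroup.orderOf_mk] at hj
      refine orderOf_eq_one_iff.mp (Nat.eq_one_of_dvd_coprimes (hMc.pow_right j) ?_ hj.dvd)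
      rw [← Subgroup.orderOf_mk x h2]; exact orderOf_dvd_natCard _
    have hinj : Set.InjOn g (P : Subgroup G) := fun x hx y hy hxy => by
      rw [hgdef, QuotientGroup.mk'_apply, QuotientGroup.mk'_apply, QuotientGroup.eq] at hxy
      exact inv_mul_eq_one.mp (hinf _ (mul_mem (inv_mem hx) hy) hxy)
    have hN : ∀ Q : Subgroup G, Q ≤ (P : Subgroup G) →
        normalizer (Q.map g : Set (G ⧸ M)) ≤ (normalizer (Q : Set G)).map g := by
      intro Q hQP x hx
      obtain ⟨x, rfl⟩ := hgs x
      obtain ⟨j, hj⟩ := IsPGroup.iff_card.mp (P.2.to_le hQP)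
      have hle : Cfsg.Lib.Coprime.conjMap x Q ≤ M ⊔ Q := by
        rintro _ ⟨y, hy, rfl⟩
        have : g (x * y * x⁻¹) ∈ Q.map g := by
          rw [map_mul, map_mul, map_inv]
          exact (mem_normalizer_iff.mp hx _).mp (mem_map_of_mem g hy)
        rw [← mem_comap, comap_map_eq, hgdef, QuotientGroup.ker_mk', sup_comm] at this
        exact this
      obtain ⟨m, hm, hmQ⟩ := Cfsg.Lib.Coprime.exists_conj_eq_of_coprime
        (le_normalizer_of_normal) (by rw [hj]; exact hMc.pow_right j)
        (Or.inr (by haveI := (P.2.to_le hQP).isNilpotent; infer_instance))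
        hle (Cfsg.Lib.Coprime.card_conjMap x Q)
      refine ⟨m⁻¹ * x, Cfsg.Lib.Coprime.conjMap_eq_self_iff.mp ?_, ?_⟩
      · rw [← Cfsg.Lib.Coprime.conjMap_mul, hmQ]
        exact Cfsg.Lib.Coprime.conjMap_inv_conjMap _ _
      · rw [map_mul, map_inv, hgdef, QuotientGroup.mk'_apply,
          (QuotientGroup.eq_one_iff m).mpr hm, inv_one, one_mul]
    have hJ := map_thompsonSubgroupOf (p := p) hinj
    have hZ := map_inf_centralizer hinj
    have hlt' : Nat.card (G ⧸ M) < n := by
      rw [← hG, card_eq_card_quotient_mul_card_subgroup M]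
      exact lt_mul_of_one_lt_right Nat.card_pos ((one_lt_card_iff_ne_bot _).mpr hMne)
    have himg : ∀ H : Subgroup G, Cfsg.HasNormalPComplement p H →
        Cfsg.HasNormalPComplement p ↥(H.map g) := fun H hH =>
      Cfsg.Lib.Transfer.hasNormalPComplement_of_surjective (g.subgroupMap H)
        (g.subgroupMap_surjective H) hH
    obtain ⟨L, hLn, hLc, l, hLl⟩ := Cfsg.Lib.Transfer.hasNormalPComplement_iff.mp
      (ih _ hlt' (G ⧸ M) rfl PM (by
        refine ⟨hasNormalPComplement_of_le ?_ (himg _ hP.1), hasNormalPComplement_of_le ?_ (himg _ hP.2)⟩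
        · rw [hPMe, ← hJ]; exact hN _ (thompsonSubgroupOf_le _)
        · rw [hPMe, ← hZ]
          intro x hx
          obtain ⟨y, hy, rfl⟩ := hN _ inf_le_left (centralizer_le_normalizer _ hx)
          refine mem_map_of_mem g (mem_centralizer_iff.mpr fun z hz => ?_)
          have h1 := (mem_normalizer_iff.mp hy z).mp hz
          have h2 : z * (y * z * y⁻¹)⁻¹ ∈ M := by
            rw [← QuotientGroup.eq_one_iff, ← QuotientGroup.mk'_apply, map_mul, map_inv, map_mul,
              map_mul, map_inv, ← hgdef, ← mem_centralizer_iff.mp hx _ (mem_map_of_mem g hz),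
              mul_inv_cancel_right, mul_inv_cancel]
          have h3 := hinf _ (mul_mem hz.1 (inv_mem h1.1)) h2
          rw [mul_inv_eq_one] at h3
          calc z * y = (y * z * y⁻¹) * y := by rw [← h3]
            _ = y * z := by group))
    refine Cfsg.Lib.Transfer.hasNormalPComplement_iff.mpr
      ⟨L.comap g, hLn.comap g, ?_, l, ?_⟩
    · rw [hgdef, Cfsg.Lib.Coprime.card_comap_mk']
      exact Nat.Coprime.mul_left hMc hLc
    · rw [index_comap_of_surjective _ hgs, hLl]
  -- `U` is self-centralising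
  have hCU : centralizer (U : Set G) ≤ U := by
    set C := centralizer (U : Set G) with hCdef
    set D := C ⊓ K₀.comap f with hDdef
    have hDp : ∀ x ∈ D, (orderOf x).Coprime p → x = 1 := by
      obtain ⟨N, hNn, hNc, j, hNj⟩ := Cfsg.Lib.Transfer.hasNormalPComplement_iff.mp
        (Cfsg.Lib.Transfer.hasNormalPComplement_of_frobenius (G := D) (p := p) fun Q hQ y _ _ => by
          intro q hq
          have hqU : (q : G) ∈ U := by
            have hqK : f (q : G) ∈ K₀ := q.2.2
            obtain ⟨i, hi⟩ := IsPGroup.iff_orderOf.mp hQ ⟨q, hq⟩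
            rw [Subgroup.orderOf_mk] at hi
            have h1 : orderOf (f (q : G)) ∣ p ^ i := by
              rw [← hi, ← Subgroup.orderOf_coe]; exact orderOf_map_dvd f _
            have h2 : orderOf (f (q : G)) ∣ Nat.card K₀ := by
              rw [← Subgroup.orderOf_mk _ hqK]; exact orderOf_dvd_natCard _
            have h3 := orderOf_eq_one_iff.mp
              (Nat.eq_one_of_dvd_coprimes (hK₀c.pow_right i) h2 h1)
            rwa [hfdef, QuotientGroup.mk'_apply, QuotientGroup.eq_one_iff] at h3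
          exact Subtype.ext (mem_centralizer_iff.mp y.2.1 _ hqU))
      haveI := hNn
      haveI : D.Normal := inferInstance
      have hNn' : (N.map D.subtype).Normal := ⟨fun x hx g => by
        obtain ⟨y, hy, rfl⟩ := mem_map.mp hx
        refine mem_map.mpr ⟨MulAut.conjNormal g y, ?_, MulAut.conjNormal_apply g y⟩
        rw [Cfsg.Lib.Transfer.mem_iff_coprime_orderOf hNc hNj, MulEquiv.orderOf_eq]
        exact (Cfsg.Lib.Transfer.mem_iff_coprime_orderOf hNc hNj y).mp hy⟩
      have hNbot := hO _ hNn' (by rwa [card_subtype])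
      intro x hx hxc
      have : x ∈ N.map D.subtype := ⟨⟨x, hx⟩, by
        rw [SetLike.mem_coe, Cfsg.Lib.Transfer.mem_iff_coprime_orderOf hNc hNj, Subgroup.orderOf_mk]
        exact hxc, rfl⟩
      rwa [hNbot, mem_bot] at this
    haveI : C.Normal := inferInstance
    have hC : IsPGroup p C := by
      intro c
      obtain ⟨a, b, ha, hb, hab, ⟨i, hi⟩, hcop⟩ := Cfsg.Lib.Transfer.exists_pPart p (c : G)
      have hbC : b ∈ C := zpowers_le.mpr c.2 hb
      have hbK : f b ∈ K₀ := (Cfsg.Lib.Transfer.mem_iff_coprime_orderOf hK₀c hK₀k _).mpr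
        (hcop.coprime_dvd_left (orderOf_map_dvd f b))
      have hb1 := hDp b ⟨hbC, hbK⟩ hcop
      refine ⟨i, Subtype.ext ?_⟩
      rw [SubmonoidClass.coe_pow, OneMemClass.coe_one, ← hab, hb1, mul_one, ← hi,
        pow_orderOf_eq_one]
    exact le_sup_right.trans (hmax (U ⊔ C) inferInstance (hU.to_sup_of_normal_left hC) le_sup_left).le
  have hUcz : U ≤ centralizer
      (((P : Subgroup G) ⊓ centralizer ((P : Subgroup G) : Set G) : Subgroup G) : Set G) :=
    le_centralizer_iff.mpr (inf_le_right.trans (centralizer_le hUP))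
  have hCZ := isPGroup_of_hasNormalPComplement hU hCU hUcz hP.2
  -- irreducibility of the complement
  have hmin : ∀ H₀ : Subgroup (G ⧸ U), H₀ ≤ K₀ →
      (P' : Subgroup (G ⧸ U)) ≤ normalizer (H₀ : Set (G ⧸ U)) → H₀ ≠ K₀ → H₀ = ⊥ := by
    intro H₀ hH hPH hne
    set H := (H₀ ⊔ P').comap f with hHdef
    obtain ⟨m, hm⟩ := IsPGroup.iff_card.mp P'.2
    have hH₀c : (Nat.card H₀).Coprime p := hK₀c.coprime_dvd_left (card_dvd_of_le hH)
    have hHtop : H ≠ ⊤ := fun h => hne (by
      have h1 : H₀ ⊔ (P' : Subgroup (G ⧸ U)) = ⊤ := by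
        rw [← map_comap_eq_self_of_surjective hfs (H₀ ⊔ (P' : Subgroup (G ⧸ U))), ← hHdef, h,
          map_top_of_surjective f hfs]
      have h2 := Cfsg.Lib.Coprime.card_sup_of_inf_eq_bot hPH
        (Cfsg.Lib.Coprime.inf_eq_bot_of_coprime (by rw [hm]; exact hH₀c.pow_right m))
      rw [h1, card_top,
        ← (Cfsg.Lib.Transfer.isComplement'_sylow_of_coprime_index hK₀c hK₀k P').card_mul] at h2
      exact eq_of_le_of_card_ge hH (Nat.eq_of_mul_eq_mul_right Nat.card_pos h2).le)
    have hPH' : (P : Subgroup G) ≤ H := by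
      rw [← hcomapP, ← hP'e]; exact comap_mono le_sup_right
    obtain ⟨T, hT⟩ : ∃ T : Sylow p H, (T : Subgroup H) = (P : Subgroup G).subgroupOf H :=
      ⟨P.subtype hPH', rfl⟩
    have hHc := ihsub H hHtop T (hyp_of_hom H.subtype_injective (by
      rwa [hT, map_subgroupOf_eq_of_le hPH']))
    have hHp : IsPGroup p ↥(H.map f) :=
      (isPGroup_of_hasNormalPComplement hU hCU (hUP.trans hPH') hHc).map f
    obtain ⟨j, hj⟩ := IsPGroup.iff_card.mp hHp
    have hd : Nat.card H₀ ∣ p ^ j := by
      rw [← hj]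
      refine card_dvd_of_le ?_
      rw [hHdef, map_comap_eq_self_of_surjective hfs]
      exact le_sup_left
    exact card_eq_one.mp (Nat.eq_one_of_dvd_coprimes (hH₀c.pow_right j) dvd_rfl hd)
  have hK₀ne : K₀ ≠ ⊥ := fun h => hno (Cfsg.Lib.Transfer.hasNormalPComplement_of_isPGroup (by
    have h1 : Nat.card (G ⧸ U) = p ^ k := by rw [← hK₀k, h, index_bot]
    obtain ⟨m, hm⟩ := IsPGroup.iff_card.mp hU
    exact IsPGroup.of_card (n := k + m) (by
      rw [card_eq_card_quotient_mul_card_subgroup U, h1, hm, pow_add])))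
  obtain ⟨q, hq, hqd⟩ := Nat.exists_prime_and_dvd (fun h => hK₀ne (card_eq_one.mp h))
  haveI := Fact.mk hq
  obtain ⟨m, hm⟩ := IsPGroup.iff_card.mp P'.2
  obtain ⟨Q, hQ⟩ := Cfsg.Lib.Coprime.exists_invariant_sylow (A := (P' : Subgroup (G ⧸ U)))
    (K := K₀) le_normalizer_of_normal (by rw [hm]; exact (hK₀c.pow_right m).symm)
    (Or.inl (by haveI := P'.2.isNilpotent; infer_instance)) q
  have hQe : (Q : Subgroup K₀).map K₀.subtype = K₀ := by
    by_contra hne
    have hbot := hmin _ (map_subtype_le _) hQ hne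
    rw [map_eq_bot_iff_of_injective _ K₀.subtype_injective] at hbot
    exact Q.ne_bot_of_dvd_card hqd hbot
  have hK₀q : IsPGroup q K₀ := hQe ▸ Q.2.map _
  have hK₀comm : IsMulCommutative K₀ := by
    have hne := center_ne_bot hK₀q hK₀ne
    have h : K₀ ⊓ centralizer (K₀ : Set (G ⧸ U)) = K₀ := by
      by_contra hne'
      exact hne (hmin _ inf_le_left (by rw [normalizer_eq_top]; exact le_top) hne')
    exact ⟨⟨fun a b => Subtype.ext (mem_centralizer_iff.mp (inf_eq_left.mp h b.2) a a.2)⟩⟩
  haveI := hK₀comm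
  have hfaith : ∀ a ∈ (P : Subgroup G).map f, (∀ r ∈ K₀, a * r = r * a) → a = 1 := by
    intro a ha hcomm
    set C := (P' : Subgroup (G ⧸ U)) ⊓ centralizer (K₀ : Set (G ⧸ U)) with hCdef
    haveI : C.Normal := by
      refine normalizer_eq_top_iff.mp (top_le_iff.mp ?_)
      rw [← Cfsg.Lib.Transfer.sup_sylow_eq_top hK₀k P']
      refine sup_le ?_ (Cfsg.Lib.Coprime.le_normalizer_inf le_normalizer le_normalizer_of_normal)
      intro r hr
      refine centralizer_le_normalizer _ (mem_centralizer_iff.mpr fun c hc => ?_)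
      exact (mem_centralizer_iff.mp hc.2 r hr).symm
    have hCp : IsPGroup p C := P'.2.to_le inf_le_left
    have hX : C.comap f = U := by
      refine hmax _ inferInstance (P.2.to_le ?_) ((QuotientGroup.ker_mk' U).ge.trans (ker_le_comap f C))
      rw [← hcomapP, ← hP'e]; exact comap_mono inf_le_left
    obtain ⟨x, hx, rfl⟩ := mem_map.mp ha
    have hxU : x ∈ U := by
      rw [← hX, mem_comap]
      exact ⟨by rw [hP'e]; exact ha, mem_centralizer_iff.mpr fun r hr => (hcomm r hr).symm⟩
    rwa [hfdef, QuotientGroup.mk'_apply, QuotientGroup.eq_one_iff]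
  have hAll := maxElem_le_of_faithful hodd hU hUP hCU hCZ hmax hK₀c hfaith
  refine hJtop (top_le_iff.mp (hUnorm.ge.trans ?_))
  have hJU : Cfsg.thompsonSubgroupOf p (P : Subgroup G) = Cfsg.thompsonSubgroupOf p U := by
    rw [thompsonSubgroupOf_eq, thompsonSubgroupOf_eq]
    congr 1
    ext A
    refine ⟨fun hA => ⟨hAll A hA, hA.2.1, fun B hB => hA.2.2 B (hB.trans hUP)⟩,
      fun hA => ⟨hA.1.trans hUP, hA.2.1, fun B hB hBe => ?_⟩⟩
    obtain ⟨A', hA'⟩ := exists_isMaxElem (p := p) (P : Subgroup G)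
    exact (hA'.2.2 B hB hBe).trans (hA.2.2 A' (hAll A' hA') hA'.2.1)
  rw [hJU]
  exact normalizer_le_normalizer_thompson U

end Cfsg.Lib.Thompson
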