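/-
Elementary abelian subgroups, offenders and the replacement theorem of Timmesfeld.
-/
import Cfsg.Agent.Thompson.Subgroup
import Cfsg.Agent.Coprime.Sylow
import Cfsg.Agent.Components.Cores
import Cfsg.Prelude.Def_PLocal

set_option linter.style.haveILetI false
set_option linter.unusedSectionVars false

namespace Cfsg.Lib.ElemToolkit

open Subgroup
open scoped commutatorElement

universe u

variable {G : Type u} [Group G] {p : ℕ}

theorem comm_of {A : Subgroup G} (hA : IsMulCommutative A) {x y : G} (hx : x ∈ A) (hy : y ∈ A) : x * y = y * x :=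
  congrArg Subtype.val (hA.is_comm.comm (⟨x, hx⟩ : A) ⟨y, hy⟩)

theorem elementary_mono {A B : Subgroup G} (h : A ≤ B) (hB : Cfsg.IsElementaryAbelian p B) :
    Cfsg.IsElementaryAbelian p A :=
  ⟨⟨⟨fun a b => Subtype.ext (comm_of hB.1 (h a.2) (h b.2))⟩⟩, fun a ha => hB.2 a (h ha)⟩

theorem elementary_sup {A B : Subgroup G} (hA : Cfsg.IsElementaryAbelian p A) (hB : Cfsg.IsElementaryAbelian p B)
    (hAB : ∀ a ∈ A, ∀ b ∈ B, a * b = b * a) : Cfsg.IsElementaryAbelian p (A ⊔ B) := by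
  have hAn : A ≤ normalizer (B : Set G) := fun a ha => centralizer_le_normalizer _
    (mem_centralizer_iff.2 fun b hb => (hAB a ha b hb).symm)
  have hform : ∀ x ∈ A ⊔ B, ∃ a ∈ A, ∃ b ∈ B, a * b = x := fun x hx => by
    rw [← SetLike.mem_coe, coe_mul_of_left_le_normalizer_right A B hAn, Set.mem_mul] at hx
    exact hx
  refine ⟨⟨⟨fun x y => Subtype.ext ?_⟩⟩, fun x hx => ?_⟩
  · obtain ⟨a, ha, b, hb, hx⟩ := hform x x.2
    obtain ⟨c, hc, d, hd, hy⟩ := hform y y.2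
    show (x : G) * y = y * x
    rw [← hx, ← hy]
    exact (((show Commute a c from comm_of hA.1 ha hc).mul_right (hAB a ha d hd)).mul_left
      ((show Commute b c from (hAB c hc b hb).symm).mul_right (comm_of hB.1 hb hd))).eq
  · obtain ⟨a, ha, b, hb, rfl⟩ := hform x hx
    rw [(show Commute a b from hAB a ha b hb).mul_pow, hA.2 a ha, hB.2 b hb, one_mul]

variable [Finite G]

theorem card_le_card_of_le {A B : Subgroup G} (h : A ≤ B) : Nat.card A ≤ Nat.card B :=
  Nat.card_le_card_of_injective _ (inclusion_injective h)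

theorem mul_card_le (A B : Subgroup G) : Nat.card A * Nat.card B ≤ Nat.card ↥(A ⊔ B) * Nat.card ↥(A ⊓ B) := by
  classical
  have hs : ∀ z : {z : G // ∃ a ∈ A, ∃ b ∈ B, a * b = z}, ∃ q : A × B, (q.1 : G) * q.2 = z := fun z => by
    obtain ⟨a, ha, b, hb, e⟩ := z.2
    exact ⟨(⟨a, ha⟩, ⟨b, hb⟩), e⟩
  choose s hs using hs
  let m : A × B → {z : G // ∃ a ∈ A, ∃ b ∈ B, a * b = z} := fun q => ⟨_, _, q.1.2, _, q.2.2, rfl⟩
  have hmem : ∀ q : A × B, ((s (m q)).1 : G)⁻¹ * q.1 = (s (m q)).2 * (q.2 : G)⁻¹ := fun q => by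
    rw [inv_mul_eq_iff_eq_mul, ← mul_assoc, hs (m q)]
    show (q.1 : G) = q.1 * q.2 * (q.2 : G)⁻¹
    group
  let f : A × B → ↥(A ⊔ B) × ↥(A ⊓ B) := fun q =>
    (⟨q.1 * q.2, mul_mem (mem_sup_left q.1.2) (mem_sup_right q.2.2)⟩,
      ⟨((s (m q)).1 : G)⁻¹ * q.1, mem_inf.2 ⟨mul_mem (inv_mem (s (m q)).1.2) q.1.2,
        hmem q ▸ mul_mem (s (m q)).2.2 (inv_mem q.2.2)⟩⟩)
  have hf : Function.Injective f := by
    intro q r h
    have h1 : (q.1 : G) * q.2 = r.1 * r.2 := congrArg (fun w : ↥(A ⊔ B) × ↥(A ⊓ B) => (w.1 : G)) h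
    have h2 : ((s (m q)).1 : G)⁻¹ * q.1 = ((s (m r)).1 : G)⁻¹ * r.1 :=
      congrArg (fun w : ↥(A ⊔ B) × ↥(A ⊓ B) => (w.2 : G)) h
    have hm : m q = m r := Subtype.ext h1
    rw [hm] at h2
    have h3 : q.1 = r.1 := Subtype.ext (mul_left_cancel h2)
    rw [h3] at h1
    exact Prod.ext h3 (Subtype.ext (mul_left_cancel h1))
  have := Nat.card_le_card_of_injective f hf
  rwa [Nat.card_prod, Nat.card_prod] at this

section Offender

variable {V A : Subgroup G}

/-- the quantity maximised by best offenders -/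
noncomputable def meas (V B : Subgroup G) : ℕ := Nat.card B * Nat.card ↥(V ⊓ centralizer (B : Set G))

/-- `A` maximises `meas` among its subgroups and has abelian image on `V` -/
def Opt (V A : Subgroup G) : Prop :=
  (∀ B : Subgroup G, B ≤ A → meas V B ≤ meas V A) ∧ ⁅A, A⁆ ≤ centralizer (V : Set G)

theorem opt_of_best (hA : Cfsg.IsBestOffenderOn p V A) : Opt V A := ⟨hA.1, hA.2.1⟩

theorem meas_le (hA : Opt V A) {B : Subgroup G} (hB : B ≤ A) : meas V B ≤ meas V A := hA.1 B hB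

/-- the basic inequality: intersections of optimal subgroups are optimal -/
theorem inf_max (hA : Opt V A) {B₁ B₂ : Subgroup G} (h₁ : B₁ ≤ A) (h₂ : B₂ ≤ A)
    (e₁ : meas V B₁ = meas V A) (e₂ : meas V B₂ = meas V A) :
    meas V (B₁ ⊓ B₂) = meas V A ∧
      V ⊓ centralizer ((B₁ ⊓ B₂ : Subgroup G) : Set G) =
        (V ⊓ centralizer (B₁ : Set G)) ⊔ (V ⊓ centralizer (B₂ : Set G)) := by
  set C₁ := V ⊓ centralizer (B₁ : Set G) with hC₁
  set C₂ := V ⊓ centralizer (B₂ : Set G) with hC₂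
  set C := V ⊓ centralizer ((B₁ ⊓ B₂ : Subgroup G) : Set G) with hC
  set C' := V ⊓ centralizer ((B₁ ⊔ B₂ : Subgroup G) : Set G) with hC'
  have hsup : C₁ ⊔ C₂ ≤ C := sup_le
    (inf_le_inf le_rfl (centralizer_le (inf_le_left : B₁ ⊓ B₂ ≤ B₁)))
    (inf_le_inf le_rfl (centralizer_le (inf_le_right : B₁ ⊓ B₂ ≤ B₂)))
  have hinf : C₁ ⊓ C₂ ≤ C' := by
    refine le_inf (inf_le_left.trans inf_le_left) ?_
    rw [le_centralizer_iff]
    exact sup_le (le_centralizer_iff.2 (inf_le_left.trans inf_le_right))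
      (le_centralizer_iff.2 (inf_le_right.trans inf_le_right))
  have hB := mul_card_le B₁ B₂
  have hCc := mul_card_le C₁ C₂
  have hle := meas_le hA (sup_le h₁ h₂)
  have hle' := meas_le hA (inf_le_left.trans h₁ : B₁ ⊓ B₂ ≤ A)
  simp only [meas, ← hC₁, ← hC₂, ← hC, ← hC'] at e₁ e₂ hle hle' ⊢
  set F := Nat.card A * Nat.card ↥(V ⊓ centralizer (A : Set G)) with hF
  have hFpos : 0 < F := Nat.mul_pos Nat.card_pos Nat.card_pos
  have key : F * F ≤ (Nat.card ↥(B₁ ⊔ B₂) * Nat.card C') * (Nat.card ↥(B₁ ⊓ B₂) * Nat.card ↥(C₁ ⊔ C₂)) := by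
    calc F * F = (Nat.card B₁ * Nat.card B₂) * (Nat.card C₁ * Nat.card C₂) := by nth_rw 1 [← e₁]; nth_rw 1 [← e₂]; ring
      _ ≤ (Nat.card ↥(B₁ ⊔ B₂) * Nat.card ↥(B₁ ⊓ B₂)) * (Nat.card ↥(C₁ ⊔ C₂) * Nat.card ↥(C₁ ⊓ C₂)) :=
          Nat.mul_le_mul hB hCc
      _ ≤ (Nat.card ↥(B₁ ⊔ B₂) * Nat.card ↥(B₁ ⊓ B₂)) * (Nat.card ↥(C₁ ⊔ C₂) * Nat.card C') :=
          Nat.mul_le_mul_left _ (Nat.mul_le_mul_left _ (card_le_card_of_le hinf))
      _ = _ := by ring
  have h3 : F ≤ Nat.card ↥(B₁ ⊓ B₂) * Nat.card ↥(C₁ ⊔ C₂) :=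
    Nat.le_of_mul_le_mul_left (key.trans (Nat.mul_le_mul_right _ hle)) hFpos
  have h4 := Nat.mul_le_mul_left (Nat.card ↥(B₁ ⊓ B₂)) (card_le_card_of_le hsup)
  refine ⟨le_antisymm hle' (h3.trans h4), (eq_of_le_of_card_ge hsup ?_).symm⟩
  exact Nat.le_of_mul_le_mul_left ((hle'.trans h3)) Nat.card_pos

theorem conj_mem_of_le_normalizer (hAV : A ≤ normalizer (V : Set G)) {a v : G} (ha : a ∈ A) (hv : v ∈ V) :
    a * v * a⁻¹ ∈ V :=
  (mem_normalizer_iff.1 (hAV ha) v).1 hv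

/-- elements of `A` commute in their action on `V` -/
theorem act_comm (hAV : A ≤ normalizer (V : Set G)) (hA : ⁅A, A⁆ ≤ centralizer (V : Set G)) {a b v : G}
    (ha : a ∈ A) (hb : b ∈ A) (hv : v ∈ V) : a * (b * v * b⁻¹) * a⁻¹ = b * (a * v * a⁻¹) * b⁻¹ := by
  have h1 : ⁅a, b⁆ * (b * (a * v * a⁻¹) * b⁻¹) = (b * (a * v * a⁻¹) * b⁻¹) * ⁅a, b⁆ :=
    ((mem_centralizer_iff.1 (hA (commutator_mem_commutator ha hb))) _
      (conj_mem_of_le_normalizer hAV hb (conj_mem_of_le_normalizer hAV ha hv))).symm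
  calc a * (b * v * b⁻¹) * a⁻¹ = ⁅a, b⁆ * (b * (a * v * a⁻¹) * b⁻¹) * ⁅a, b⁆⁻¹ := by
        simp only [commutatorElement_def]; group
    _ = _ := by rw [h1, mul_inv_cancel_right]

/-- the subgroup generated by the commutators of elements of `S` with `A` -/
def commSpan (S : Set G) (A : Subgroup G) : Subgroup G := closure {x | ∃ u ∈ S, ∃ a ∈ A, ⁅u, a⁆ = x}

theorem comm_mem (hAV : A ≤ normalizer (V : Set G)) {u a : G} (hu : u ∈ V) (ha : a ∈ A) : ⁅u, a⁆ ∈ V := by
  rw [commutatorElement_def, mul_assoc, mul_assoc]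
  refine mul_mem hu ?_
  rw [← mul_assoc]
  exact conj_mem_of_le_normalizer hAV ha (inv_mem hu)

theorem commSpan_le (hAV : A ≤ normalizer (V : Set G)) {S : Set G} (hS : S ⊆ V) : commSpan S A ≤ V :=
  (closure_le _).2 fun x ⟨u, hu, a, ha, hx⟩ => hx ▸ comm_mem hAV (hS hu) ha

theorem single (hV : Cfsg.IsElementaryAbelian p V) (hAV : A ≤ normalizer (V : Set G))
    (hA : Opt V A) {u : G} (hu : u ∈ V) :
    meas V (A ⊓ centralizer (commSpan {u} A : Set G)) = meas V A ∧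
      V ⊓ centralizer ((A ⊓ centralizer (commSpan {u} A : Set G) : Subgroup G) : Set G) =
        commSpan {u} A ⊔ (V ⊓ centralizer (A : Set G)) := by
  classical
  set X := commSpan {u} A with hX
  set B := A ⊓ centralizer (X : Set G) with hB
  set C := V ⊓ centralizer (A : Set G) with hC
  set W := X ⊔ C with hW
  have hXV : X ≤ V := commSpan_le hAV (Set.singleton_subset_iff.2 hu)
  have hWle : W ≤ V ⊓ centralizer (B : Set G) :=
    sup_le (le_inf hXV (le_centralizer_iff.1 (inf_le_right : B ≤ centralizer (X : Set G))))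
      (inf_le_inf le_rfl (centralizer_le (inf_le_left : B ≤ A)))
  have hmemX : ∀ a ∈ A, ⁅u, a⁆ ∈ X := fun a ha => subset_closure ⟨u, rfl, a, ha, rfl⟩
  have key : ∀ a ∈ A, ∀ b ∈ A, ⁅u, a⁆⁻¹ * ⁅u, b⁆ ∈ C → a⁻¹ * b ∈ B := by
    intro a ha b hb hc
    have hab : a⁻¹ * b ∈ A := mul_mem (inv_mem ha) hb
    refine ⟨hab, ?_⟩
    show a⁻¹ * b ∈ centralizer ((closure {x | ∃ w ∈ ({u} : Set G), ∃ d ∈ A, ⁅w, d⁆ = x} : Subgroup G) : Set G)
    rw [centralizer_closure, mem_centralizer_iff]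
    rintro _ ⟨w, rfl, d, hd, rfl⟩
    have hcv : a * w * a⁻¹ * (b * w⁻¹ * b⁻¹) ∈ C := by
      have e : ⁅w, a⁆⁻¹ * ⁅w, b⁆ = a * w * a⁻¹ * (b * w⁻¹ * b⁻¹) := by simp only [commutatorElement_def]; group
      rwa [e] at hc
    set c := a * w * a⁻¹ * (b * w⁻¹ * b⁻¹) with hcdef
    have hfix : d * c * d⁻¹ = c := by
      rw [mem_centralizer_iff.1 (mem_inf.1 hcv).2 d hd, mul_inv_cancel_right]
    have hawc : a * w * a⁻¹ = c * (b * w * b⁻¹) := by rw [hcdef]; group
    have hsame : a * ⁅w, d⁆ * a⁻¹ = b * ⁅w, d⁆ * b⁻¹ := by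
      have e1 : ∀ z : G, z * ⁅w, d⁆ * z⁻¹ = (z * w * z⁻¹) * (z * (d * w * d⁻¹) * z⁻¹)⁻¹ := fun z => by
        simp only [commutatorElement_def]; group
      rw [e1, e1, act_comm hAV hA.2 ha hd hu, act_comm hAV hA.2 hb hd hu, hawc]
      calc c * (b * w * b⁻¹) * (d * (c * (b * w * b⁻¹)) * d⁻¹)⁻¹
          = c * ((b * w * b⁻¹) * (d * (b * w * b⁻¹) * d⁻¹)⁻¹) * (d * c * d⁻¹)⁻¹ := by group
        _ = c * ((b * w * b⁻¹) * (d * (b * w * b⁻¹) * d⁻¹)⁻¹) * c⁻¹ := by rw [hfix]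
        _ = _ := by
          rw [comm_of hV.1 (mem_inf.1 hcv).1 (mul_mem (conj_mem_of_le_normalizer hAV hb hu)
            (inv_mem (conj_mem_of_le_normalizer hAV hd (conj_mem_of_le_normalizer hAV hb hu)))), mul_inv_cancel_right]
    calc ⁅w, d⁆ * (a⁻¹ * b) = a⁻¹ * (a * ⁅w, d⁆ * a⁻¹) * b := by group
      _ = _ := by rw [hsame]; group
  let kq : A → W ⧸ C.subgroupOf W := fun a => QuotientGroup.mk ⟨⁅u, (a : G)⁆, mem_sup_left (hmemX a a.2)⟩
  let r : W ⧸ C.subgroupOf W → A := fun q => if h : ∃ a, kq a = q then h.choose else 1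
  have hr : ∀ a : A, kq (r (kq a)) = kq a := fun a => by
    simp only [r]
    rw [dif_pos ⟨a, rfl⟩]
    exact (⟨a, rfl⟩ : ∃ a', kq a' = kq a).choose_spec
  let f : A × C → B × W := fun q =>
    (⟨(r (kq q.1) : G)⁻¹ * q.1, key _ (r (kq q.1)).2 _ q.1.2 (by
        simpa [kq, mem_subgroupOf] using QuotientGroup.eq.1 (hr q.1))⟩,
      ⟨⁅u, (q.1 : G)⁆ * q.2, mul_mem (mem_sup_left (hmemX _ q.1.2)) (mem_sup_right q.2.2)⟩)
  have hf : Function.Injective f := by
    intro q s h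
    have h1 : (r (kq q.1) : G)⁻¹ * q.1 = (r (kq s.1) : G)⁻¹ * s.1 := congrArg (fun w : B × W => (w.1 : G)) h
    have h2 : ⁅u, (q.1 : G)⁆ * q.2 = ⁅u, (s.1 : G)⁆ * s.2 := congrArg (fun w : B × W => (w.2 : G)) h
    have hk : kq q.1 = kq s.1 := by
      simp only [kq]
      rw [QuotientGroup.eq, mem_subgroupOf]
      have e : ⁅u, (q.1 : G)⁆⁻¹ * ⁅u, (s.1 : G)⁆ = (q.2 : G) * (s.2 : G)⁻¹ := by
        rw [inv_mul_eq_iff_eq_mul, ← mul_assoc, h2, mul_inv_cancel_right]
      show ⁅u, (q.1 : G)⁆⁻¹ * ⁅u, (s.1 : G)⁆ ∈ C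
      rw [e]
      exact mul_mem q.2.2 (inv_mem s.2.2)
    rw [hk] at h1
    have h3 : q.1 = s.1 := Subtype.ext (mul_left_cancel h1)
    rw [h3] at h2
    exact Prod.ext h3 (Subtype.ext (mul_left_cancel h2))
  have h1 : meas V A ≤ Nat.card B * Nat.card W := by
    have := Nat.card_le_card_of_injective f hf
    rwa [Nat.card_prod, Nat.card_prod] at this
  have h2 : Nat.card B * Nat.card W ≤ meas V B := Nat.mul_le_mul_left _ (card_le_card_of_le hWle)
  have h3 := meas_le hA (inf_le_left : B ≤ A)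
  refine ⟨le_antisymm h3 (h1.trans h2), (eq_of_le_of_card_ge hWle ?_).symm⟩
  exact Nat.le_of_mul_le_mul_left (h3.trans h1) Nat.card_pos

theorem commSpan_union (S T : Set G) : commSpan (S ∪ T) A = commSpan S A ⊔ commSpan T A := by
  unfold commSpan
  rw [← Subgroup.closure_union]
  congr 1
  ext x
  constructor
  · rintro ⟨u, hu | hu, r⟩
    exacts [Or.inl ⟨u, hu, r⟩, Or.inr ⟨u, hu, r⟩]
  · rintro (⟨u, hu, r⟩ | ⟨u, hu, r⟩)
    exacts [⟨u, Or.inl hu, r⟩, ⟨u, Or.inr hu, r⟩]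

theorem replacement (hV : Cfsg.IsElementaryAbelian p V) (hAV : A ≤ normalizer (V : Set G))
    (hA : Opt V A) {S : Set G} (hS : S ⊆ V) :
    meas V (A ⊓ centralizer (commSpan S A : Set G)) = meas V A ∧
      V ⊓ centralizer ((A ⊓ centralizer (commSpan S A : Set G) : Subgroup G) : Set G) =
        commSpan S A ⊔ (V ⊓ centralizer (A : Set G)) := by
  induction S, Set.toFinite S using Set.Finite.induction_on with
  | empty =>
    have h0 : commSpan (∅ : Set G) A = ⊥ := by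
      rw [commSpan, show {x : G | ∃ u ∈ (∅ : Set G), ∃ a ∈ A, ⁅u, a⁆ = x} = ∅ by simp, Subgroup.closure_empty]
    have hA' : A ⊓ centralizer (((⊥ : Subgroup G) : Subgroup G) : Set G) = A := by
      refine inf_eq_left.2 fun a _ => mem_centralizer_iff.2 fun x hx => ?_
      rw [SetLike.mem_coe, mem_bot] at hx
      simp [hx]
    rw [h0, hA', bot_sup_eq]
    exact ⟨rfl, rfl⟩
  | @insert u T _ _ ih =>
    have hu : u ∈ V := hS (Set.mem_insert u T)
    obtain ⟨ih1, ih2⟩ := ih ((Set.subset_insert u T).trans hS)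
    obtain ⟨s1, s2⟩ := single hV hAV hA hu
    obtain ⟨m1, m2⟩ := inf_max hA inf_le_left inf_le_left s1 ih1
    have he : A ⊓ centralizer (commSpan (insert u T) A : Set G) =
        (A ⊓ centralizer (commSpan {u} A : Set G)) ⊓ (A ⊓ centralizer (commSpan T A : Set G)) := by
      rw [Set.insert_eq, commSpan_union]
      refine le_antisymm (le_inf (inf_le_inf le_rfl (centralizer_le (le_sup_left : commSpan {u} A ≤ _)))
        (inf_le_inf le_rfl (centralizer_le (le_sup_right : commSpan T A ≤ _)))) (le_inf (inf_le_left.trans inf_le_left) ?_)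
      rw [le_centralizer_iff]
      exact sup_le (le_centralizer_iff.2 (inf_le_left.trans inf_le_right))
        (le_centralizer_iff.2 (inf_le_right.trans inf_le_right))
    rw [he]
    refine ⟨m1, m2.trans ?_⟩
    rw [s2, ih2, Set.insert_eq, commSpan_union, ← sup_sup_distrib_right]

theorem comm_lt (hp : p.Prime) (hV : Cfsg.IsElementaryAbelian p V) (hAV : A ≤ normalizer (V : Set G))
    (hA : Cfsg.IsBestOffenderOn p V A) (hgen : V ≤ ⁅V, A⁆ ⊔ (V ⊓ centralizer (A : Set G))) : ⁅V, A⁆ = ⊥ := by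
  haveI : Fact p.Prime := ⟨hp⟩
  set K := A ⊓ centralizer (V : Set G) with hK
  obtain ⟨Sy⟩ : Nonempty (Sylow p A) := inferInstance
  set S := (Sy : Subgroup A).map A.subtype with hSdef
  haveI hKn : (K.subgroupOf A).Normal := by
    refine ⟨fun k hk a => ?_⟩
    rw [mem_subgroupOf] at hk ⊢
    refine ⟨((a * k * a⁻¹ : A)).2, mem_centralizer_iff.2 fun v hv => ?_⟩
    have h1 := mem_centralizer_iff.1 (mem_inf.1 hk).2 _ (conj_mem_of_le_normalizer hAV (inv_mem a.2) hv)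
    simp only [inv_inv] at h1
    push_cast
    calc v * ((a : G) * k * (a : G)⁻¹) = a * (((a : G)⁻¹ * v * a) * k) * (a : G)⁻¹ := by group
      _ = _ := by rw [h1]; group
  have hpow : ∀ a : A, a ^ p ∈ K.subgroupOf A := fun a => by
    rw [mem_subgroupOf]
    exact mem_inf.2 ⟨(a ^ p).2, by push_cast; exact hA.2.2 a a.2⟩
  have hKS : K.subgroupOf A ⊔ (Sy : Subgroup A) = ⊤ := by
    rw [← index_eq_one]
    obtain ⟨k, hk⟩ := (IsPGroup.iff_card (p := p) (G := A ⧸ K.subgroupOf A)).1 fun q => ⟨1, by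
      induction q using QuotientGroup.induction_on with
      | H a => rw [pow_one, ← QuotientGroup.mk_pow, QuotientGroup.eq_one_iff]; exact hpow a⟩
    rw [← index_eq_card] at hk
    have h1 : (K.subgroupOf A ⊔ (Sy : Subgroup A)).index ∣ p ^ k := hk ▸ index_dvd_of_le le_sup_left
    have h2 : ¬ p ∣ (K.subgroupOf A ⊔ (Sy : Subgroup A)).index := fun h =>
      Sy.not_dvd_index (h.trans (index_dvd_of_le le_sup_right))
    obtain ⟨j, -, hj⟩ := (Nat.dvd_prime_pow hp).1 h1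
    rcases j with _ | j
    · rw [hj, pow_zero]
    · exact absurd (hj ▸ dvd_pow_self p (Nat.succ_ne_zero j)) h2
  set P := V ⊔ S with hP
  have hSA : S ≤ A := map_subtype_le _
  have hSp : IsPGroup p S := Sy.isPGroup'.map _
  have hVp : IsPGroup p V := fun v => ⟨1, Subtype.ext (by rw [pow_one]; push_cast; exact hV.2 v v.2)⟩
  have hPp : IsPGroup p P := hVp.to_sup_of_normal_left' hSp (hSA.trans hAV)
  have hW : ⁅V, A⁆ ≤ V := commutator_le.2 fun v hv a ha => comm_mem hAV hv ha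
  have hWP : ⁅V, A⁆ ≤ ⁅⁅V, A⁆, P⁆ := by
    refine commutator_le.2 fun v hv a ha => ?_
    obtain ⟨k, hk, s, hs, hks⟩ := mem_sup_of_normal_left.1
      ((hKS.symm ▸ mem_top _ : (⟨a, ha⟩ : A) ∈ K.subgroupOf A ⊔ (Sy : Subgroup A)))
    have hks' : a = (k : G) * s := (congrArg Subtype.val hks).symm
    have hsS : (s : G) ∈ S := mem_map_of_mem _ hs
    have hkc : ∀ x ∈ V, (k : G) * x = x * k := fun x hx => (mem_centralizer_iff.1 (mem_inf.1 hk).2 x hx).symm
    have e1 : ⁅v, a⁆ = ⁅v, (s : G)⁆ := by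
      calc ⁅v, a⁆ = v * k * v⁻¹ * (v * (s : G) * v⁻¹ * (s : G)⁻¹) * (k : G)⁻¹ := by
            rw [hks', commutatorElement_def]; group
        _ = _ := by
            rw [← hkc v hv, mul_inv_cancel_right, ← commutatorElement_def, hkc _ (comm_mem hAV hv (hSA hsS)),
              mul_inv_cancel_right]
    rw [e1]
    have hn : ⁅V, A⁆ ⊔ (V ⊓ centralizer (A : Set G)) ≤ V := sup_le hW inf_le_left
    have hv' := hgen hv
    rw [← SetLike.mem_coe, coe_mul_of_left_le_normalizer_right, Set.mem_mul] at hv'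
    swap
    · intro w hw
      refine centralizer_le_normalizer _ (mem_centralizer_iff.2 fun c hc => ?_)
      exact comm_of hV.1 (mem_inf.1 hc).1 (hW hw)
    obtain ⟨w, hw, c, hc, rfl⟩ := hv'
    have hcs : c * (s : G) = s * c := (mem_centralizer_iff.1 (mem_inf.1 hc).2 s (hSA hsS)).symm
    have e2 : ⁅w * c, (s : G)⁆ = ⁅w, (s : G)⁆ := by
      calc ⁅w * c, (s : G)⁆ = w * (c * s) * c⁻¹ * w⁻¹ * (s : G)⁻¹ := by rw [commutatorElement_def]; group
        _ = _ := by rw [hcs, commutatorElement_def]; group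
    rw [e2]
    exact commutator_mem_commutator hw (mem_sup_right hsS)
  haveI := hPp.isNilpotent
  obtain ⟨n, hn⟩ := (isNilpotent_iff_lowerCentralSeries P).1 inferInstance
  have hall : ∀ j, ⁅V, A⁆ ≤ P.lowerCentralSeries j := by
    intro j
    induction j with
    | zero => exact hW.trans le_sup_left
    | succ j ih =>
      rw [Subgroup.lowerCentralSeries_succ]
      exact hWP.trans (commutator_mono ih le_rfl)
  exact le_bot_iff.1 (hn ▸ hall n)

end Offender

/-- the subgroup generated by fixed points of all Sylow subgroups admits no normal `p`-subgroup modulo its centraliser -/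
theorem pCore_eq_bot [hp : Fact p.Prime] (V : Subgroup G) [V.Normal]
    (hgen : V = ⨆ S : Sylow p G, V ⊓ centralizer ((S : Subgroup G) : Set G)) :
    Cfsg.pCore p (G ⧸ centralizer (V : Set G)) = ⊥ := by
  set C := centralizer (V : Set G) with hC
  set D := (Cfsg.pCore p (G ⧸ C)).comap (QuotientGroup.mk' C) with hD
  have hDC : D ≤ C := by
    rw [hC, le_centralizer_iff]
    nth_rw 1 [hgen]
    refine iSup_le fun S => ?_
    have hDS : D ≤ C ⊔ (S : Subgroup G) := by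
      intro x hx
      haveI : (Cfsg.pCore p (G ⧸ C)).Normal := Cfsg.Lib.Components.pCore_normal' p
      set T := Sylow.mapSurjective (QuotientGroup.mk'_surjective C) S with hT
      have hle : Cfsg.pCore p (G ⧸ C) ≤ T :=
        sup_eq_left.1 (T.is_maximal' (T.isPGroup'.to_sup_of_normal_right (Cfsg.Lib.Components.isPGroup_pCore p))
          le_sup_left)
      have h2 : QuotientGroup.mk' C x ∈ ((S : Subgroup G).map (QuotientGroup.mk' C)) := by
        have := hle hx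
        rwa [hT, Sylow.coe_mapSurjective] at this
      obtain ⟨s, hs, hse⟩ := h2
      have h3 : x * s⁻¹ ∈ C := by
        rw [← QuotientGroup.eq_one_iff, QuotientGroup.mk_mul, QuotientGroup.mk_inv, mul_inv_eq_one]
        exact hse.symm
      have := mul_mem (mem_sup_left h3 : x * s⁻¹ ∈ C ⊔ (S : Subgroup G)) (mem_sup_right hs)
      rwa [inv_mul_cancel_right] at this
    rw [le_centralizer_iff]
    refine hDS.trans (sup_le (centralizer_le inf_le_left) (le_centralizer_iff.1 inf_le_right))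
  refine le_bot_iff.1 fun q hq => ?_
  induction q using QuotientGroup.induction_on with
  | H x => exact mem_bot.2 ((QuotientGroup.eq_one_iff x).2 (hDC hq))

end Cfsg.Lib.ElemToolkit
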