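/-
Basics on `Ω₁(Z(S))` and `J(S)` for Sylow subgroups.
-/
import Cfsg.Agent.Thompson.Subgroup
import Cfsg.Prelude.Def_PLocal

set_option linter.style.haveILetI false
set_option linter.unusedSectionVars false

namespace Cfsg.Lib.ThompsonFactor

open Subgroup
open scoped Pointwise

universe u

variable {G G' : Type u} [Group G] [Group G'] {p : ℕ}

/-- `Ω₁(Z(S))`. -/
def omegaZ (p : ℕ) (S : Subgroup G) : Subgroup G :=
  Cfsg.omegaOne p (S ⊓ centralizer (S : Set G))

theorem omegaZ_le (S : Subgroup G) : omegaZ p S ≤ S ⊓ centralizer (S : Set G) :=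
  (closure_le _).2 fun _ hx => hx.1

theorem map_omegaZ {f : G →* G'} {S : Subgroup G} (hf : Set.InjOn f S) :
    (omegaZ p S).map f = omegaZ p (S.map f) := by
  unfold omegaZ Cfsg.omegaOne
  rw [MonoidHom.map_closure]
  congr 1
  ext y
  constructor
  · rintro ⟨x, ⟨hx, hxp⟩, rfl⟩
    refine ⟨⟨⟨x, hx.1, rfl⟩, ?_⟩, by rw [← map_pow, hxp, map_one]⟩
    rintro _ ⟨s, hs, rfl⟩
    rw [← map_mul, ← map_mul, hx.2 s hs]
  · rintro ⟨⟨⟨x, hx, rfl⟩, hy⟩, hyp⟩
    refine ⟨x, ⟨⟨hx, fun s hs => ?_⟩, ?_⟩, rfl⟩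
    · refine hf (mul_mem hs hx) (mul_mem hx hs) ?_
      rw [map_mul, map_mul]
      exact hy (f s) ⟨s, hs, rfl⟩
    · refine hf (pow_mem hx p) (one_mem S) ?_
      rw [map_pow, map_one]
      exact hyp

theorem map_conj_omegaZ (g : G) (S : Sylow p G) :
    (omegaZ p (S : Subgroup G)).map (MulAut.conj g).toMonoidHom = omegaZ p ((g • S : Sylow p G) : Subgroup G) := by
  rw [Sylow.coe_subgroup_smul]
  exact map_omegaZ (MulAut.conj g).injective.injOn

theorem map_conj_thompson (g : G) (S : Sylow p G) :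
    (Cfsg.thompsonSubgroupOf p (S : Subgroup G)).map (MulAut.conj g).toMonoidHom =
      Cfsg.thompsonSubgroupOf p ((g • S : Sylow p G) : Subgroup G) := by
  rw [Sylow.coe_subgroup_smul]
  exact Cfsg.Lib.Thompson.map_thompsonSubgroupOf (MulAut.conj g).injective.injOn

theorem isPGroup_of_elementary [Fact p.Prime] {A : Subgroup G} (hA : Cfsg.IsElementaryAbelian p A) : IsPGroup p A :=
  fun a => ⟨1, Subtype.ext (by simpa using hA.2 a a.2)⟩

variable [Finite G] [Fact p.Prime]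

theorem thompsonSubgroupOf_le_thompsonSubgroup (S : Sylow p G) :
    Cfsg.thompsonSubgroupOf p (S : Subgroup G) ≤ Cfsg.thompsonSubgroup p G := by
  rw [Cfsg.Lib.Thompson.thompsonSubgroupOf_eq]
  refine sSup_le fun A hA => le_sSup ⟨hA.2.1, fun B hB => ?_⟩
  obtain ⟨R, hR⟩ := (isPGroup_of_elementary hB).exists_le_sylow
  obtain ⟨g, hg⟩ := MulAction.exists_smul_eq G R S
  have h1 : Cfsg.IsElementaryAbelian p (B.map (MulAut.conj g).toMonoidHom) :=
    (Cfsg.Lib.Thompson.isElementaryAbelian_map_iff (MulAut.conj g).injective.injOn).2 hB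
  have h2 : B.map (MulAut.conj g).toMonoidHom ≤ (S : Subgroup G) := by
    rw [← hg, Sylow.coe_subgroup_smul]; exact map_mono hR
  rw [← Cfsg.Lib.Thompson.card_map_of_injOn (f := (MulAut.conj g).toMonoidHom) (B := B) (MulAut.conj g).injective.injOn]
  exact hA.2.2 _ h2 h1

theorem thompsonSubgroup_le {C : Subgroup G} (h : ∀ S : Sylow p G, Cfsg.thompsonSubgroupOf p (S : Subgroup G) ≤ C) :
    Cfsg.thompsonSubgroup p G ≤ C := by
  refine sSup_le fun A hA => ?_
  obtain ⟨R, hR⟩ := (isPGroup_of_elementary hA.1).exists_le_sylow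
  refine le_trans ?_ (h R)
  rw [Cfsg.Lib.Thompson.thompsonSubgroupOf_eq]
  exact le_sSup ⟨hR, hA.1, fun B _ hB => hA.2 B hB⟩

end Cfsg.Lib.ThompsonFactor
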