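import Cfsg.Agent.Coprime.Generation
import Mathlib.FieldTheory.Finite.Basic
import Mathlib.GroupTheory.PGroup
import Mathlib.Algebra.Module.LinearMap.End

/-!
The offender lemma behind Thompson's normal p-complement theorem: for `p` odd, an elementary
abelian `p`-group acting faithfully on an abelian `p'`-group `Q`, with `QA` acting faithfully on an
abelian group `M` of exponent `p`, has fixed points of index at least `p|A|` in `M`.
-/

set_option autoImplicit false
set_option linter.unusedSectionVars false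
set_option linter.unusedSimpArgs false

namespace Cfsg.Lib.Thompson

open scoped commutatorElement

variable {p : ℕ} [hp : Fact p.Prime] {M : Type*} [AddCommGroup M]

theorem nsmul_eq_zero_of_coprime {m : ℕ} (hc : m.Coprime p) {x : M} (h1 : m • x = 0)
    (h2 : p • x = 0) : x = 0 :=
  AddMonoid.addOrderOf_eq_one_iff.mp (Nat.eq_one_of_dvd_coprimes hc
    (addOrderOf_dvd_of_nsmul_eq_zero h1) (addOrderOf_dvd_of_nsmul_eq_zero h2))

theorem dvd_of_zsmul_eq_zero {k : ℤ} {x : M} (hx : x ≠ 0) (h2 : p • x = 0) (h : k • x = 0) :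
    (p : ℤ) ∣ k := by
  have ho : addOrderOf x = p := addOrderOf_eq_prime h2 hx
  rw [← ho]
  exact addOrderOf_dvd_iff_zsmul_eq_zero.mpr h

/-- A rank one nilpotent endomorphism `T`: if `s` commutes with `(1+T)s(1-T)` then `TsT = 0`. -/
theorem rank_one_sq (hodd : p ≠ 2) (hM : ∀ x : M, p • x = 0) {T s : M →+ M} {w : M}
    (hr : ∀ x, ∃ k : ℤ, T x = k • w) (hTw : T w = 0)
    (hcomm : ∀ x, s (s (x - T x) + T (s (x - T x))) =
      s (s x - T (s x)) + T (s (s x - T (s x)))) :
    ∀ x, T (s (T x)) = 0 := by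
  suffices h : T (s w) = 0 by
    intro x
    obtain ⟨k, hk⟩ := hr x
    simp [hk, h]
  obtain ⟨g, hg⟩ := hr (s w)
  obtain ⟨j, hj⟩ := hr (s (s w))
  have h1 := congrArg T (hcomm w)
  simp only [map_add, map_sub, map_zsmul, hTw, hg, hj, sub_zero, smul_zero, add_zero,
    zero_add, sub_self, map_zero] at h1
  by_cases hw : w = 0
  · rw [hg, hw, smul_zero]
  have h2 : (2 * g * g) • w = 0 := by
    linear_combination (norm := module) h1
  have h3 : (p : ℤ) ∣ g := by
    rcases (Nat.prime_iff_prime_int.mp hp.out).dvd_or_dvd (dvd_of_zsmul_eq_zero hw (hM w) h2)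
      with h4 | h4
    · rcases (Nat.prime_iff_prime_int.mp hp.out).dvd_or_dvd h4 with h5 | h5
      · exact absurd ((Nat.prime_dvd_prime_iff_eq hp.out Nat.prime_two).mp
          (by exact_mod_cast h5)) hodd
      · exact h5
    · exact h4
  obtain ⟨c, hc⟩ := h3
  rw [hg, hc, mul_comm, mul_smul, natCast_zsmul, hM, smul_zero]

variable {X : Type*} [Group X] (ρ : X →* AddMonoid.End M)

theorem rho_mul (a b : X) (x : M) : ρ (a * b) x = ρ a (ρ b x) := by
  rw [map_mul]; rfl

theorem rho_one (x : M) : ρ 1 x = x := by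
  rw [map_one]; rfl

/-- The fixed points of a subgroup. -/
def fixed (B : Subgroup X) : AddSubgroup M where
  carrier := {x | ∀ b ∈ B, ρ b x = x}
  zero_mem' b _ := map_zero _
  add_mem' hx hy b hb := by rw [map_add, hx b hb, hy b hb]
  neg_mem' hx b hb := by rw [map_neg, hx b hb]

theorem mem_fixed {B : Subgroup X} {x : M} : x ∈ fixed ρ B ↔ ∀ b ∈ B, ρ b x = x := Iff.rfl

theorem fixed_anti {B A : Subgroup X} (h : B ≤ A) : fixed ρ A ≤ fixed ρ B :=
  fun _ hx b hb => hx b (h hb)

include hp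

/-- Thompson's `A × B` lemma for a linear action. -/
theorem eq_one_of_fixed [Finite X] [Finite M] (hinj : Function.Injective ρ)
    (hM : ∀ x : M, p • x = 0) {B : Subgroup X} (hB : IsPGroup p B) {r : X}
    (hr : (orderOf r).Coprime p) (hcomm : ∀ b ∈ B, b * r = r * b)
    (hfix : ∀ x ∈ fixed ρ B, ρ r x = x) : r = 1 := by
  let d : M →+ M := (show M →+ M from ρ r) - AddMonoidHom.id M
  have hd : ∀ x, d x = ρ r x - x := fun x => rfl
  by_contra hne
  have hW : d.range ≠ ⊥ := fun h => hne (hinj (by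
    rw [map_one]
    ext x
    have : d x = 0 := by
      have h0 : d x ∈ d.range := ⟨x, rfl⟩
      rwa [h, AddSubgroup.mem_bot] at h0
    rwa [hd, sub_eq_zero] at this))
  have hcl : ∀ b : B, ∀ x ∈ d.range, ρ (b : X) x ∈ d.range := by
    rintro b _ ⟨y, rfl⟩
    exact ⟨ρ (b : X) y, by rw [hd, hd, map_sub, ← rho_mul, ← rho_mul, hcomm b b.2]⟩
  letI : MulAction B d.range :=
    { smul := fun b x => ⟨ρ (b : X) x, hcl b _ x.2⟩
      one_smul := fun x => Subtype.ext (rho_one ρ _)
      mul_smul := fun a b x => Subtype.ext (rho_mul ρ (a : X) (b : X) _) }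
  have hdvd : p ∣ Nat.card d.range := by
    haveI : Nontrivial d.range := (AddSubgroup.nontrivial_iff_ne_bot _).mpr hW
    obtain ⟨x, hx⟩ := exists_ne (0 : d.range)
    have : addOrderOf (x : M) = p :=
      addOrderOf_eq_prime (hM _) fun h => hx (Subtype.ext h)
    rw [← this, AddSubgroup.addOrderOf_coe]
    exact addOrderOf_dvd_natCard x
  obtain ⟨⟨v, y, rfl⟩, hv, hv0⟩ :=
    hB.exists_fixed_point_of_prime_dvd_card_of_fixed_point (d.range) hdvd (a := 0)
      (fun b => Subtype.ext (map_zero _))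
  have hvfix : ρ r (d y) = d y := hfix _ fun b hb => congrArg Subtype.val (hv ⟨b, hb⟩)
  refine hv0 (Subtype.ext ?_)
  have hiter : ∀ n : ℕ, ρ (r ^ n) y = y + n • d y := by
    intro n
    induction n with
    | zero => simp [rho_one]
    | succ n ih =>
      rw [pow_succ', rho_mul, ih, map_add, map_nsmul, hvfix, hd, succ_nsmul]
      abel
  refine (nsmul_eq_zero_of_coprime hr ?_ (hM _)).symm
  have := hiter (orderOf r)
  rwa [pow_orderOf_eq_one, rho_one, left_eq_add] at this

/-- An element of order `p` with fixed points of index at most `p` centralises any abelian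
`p'`-subgroup it normalises. -/
theorem commute_of_index_le [Finite M] [Finite X] (hodd : p ≠ 2) (hinj : Function.Injective ρ)
    (hM : ∀ x : M, p • x = 0) {a : X} (ha : a ^ p = 1) {Q : Subgroup X} [IsMulCommutative Q]
    (hQ : (Nat.card Q).Coprime p) (haQ : a ∈ Subgroup.normalizer (Q : Set X))
    (hidx : (fixed ρ (Subgroup.zpowers a)).index ≤ p) : ∀ r ∈ Q, a * r = r * a := by
  let T : M →+ M := (show M →+ M from ρ a) - AddMonoidHom.id M
  have hT : ∀ x, T x = ρ a x - x := fun x => rfl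
  have hker : fixed ρ (Subgroup.zpowers a) = T.ker := by
    ext x
    rw [AddMonoidHom.mem_ker, hT, sub_eq_zero, mem_fixed]
    refine ⟨fun h => h a (Subgroup.mem_zpowers a), fun h b hb => ?_⟩
    obtain ⟨n, rfl⟩ := Submonoid.mem_powers_iff b a |>.mp
      ((isOfFinOrder_of_finite a).mem_powers_iff_mem_zpowers.mpr hb)
    induction n with
    | zero => rw [pow_zero, rho_one]
    | succ n ih => rw [pow_succ', rho_mul, ih (pow_mem (Subgroup.mem_zpowers a) n), h]
  rw [hker, AddSubgroup.index_ker] at hidx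
  obtain ⟨w, hw, hr⟩ : ∃ w, T w = 0 ∧ ∀ x, ∃ k : ℤ, T x = k • w := by
    by_cases hbot : T.range = ⊥
    · exact ⟨0, map_zero _, fun x => ⟨0, by
        have h0 : T x ∈ T.range := ⟨x, rfl⟩
        rw [hbot, AddSubgroup.mem_bot] at h0
        simpa using h0⟩⟩
    haveI : Nontrivial T.range := (AddSubgroup.nontrivial_iff_ne_bot _).mpr hbot
    obtain ⟨⟨w, hwr⟩, hw0⟩ := exists_ne (0 : T.range)
    have hw0' : w ≠ 0 := fun h => hw0 (Subtype.ext h)
    have heq : AddSubgroup.zmultiples w = T.range :=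
      AddSubgroup.eq_of_le_of_card_ge (AddSubgroup.zmultiples_le.mpr hwr)
        (by rw [Nat.card_zmultiples, addOrderOf_eq_prime (hM w) hw0']; exact hidx)
    have hr : ∀ x, ∃ k : ℤ, T x = k • w := fun x => by
      have h0 : T x ∈ AddSubgroup.zmultiples w := heq ▸ ⟨x, rfl⟩
      obtain ⟨k, hk⟩ := AddSubgroup.mem_zmultiples_iff.mp h0
      exact ⟨k, hk.symm⟩
    obtain ⟨k, hk⟩ := hr w
    refine ⟨w, ?_, hr⟩
    have hpow : ∀ n : ℕ, ρ (a ^ n) w = ((1 + k) ^ n) • w := by
      intro n
      induction n with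
      | zero => simp [rho_one]
      | succ n ih =>
        have haw : ρ a w = (1 + k) • w := by
          rw [add_smul, one_smul, ← hk, hT]; abel
        rw [pow_succ', rho_mul, ih, map_zsmul, haw, ← mul_smul, pow_succ]
    have h1 := hpow p
    rw [ha, rho_one, ← sub_eq_zero] at h1
    have h2 : ((1 : ℤ) - (1 + k) ^ p) • w = 0 := by rwa [sub_smul, one_smul]
    have h3 := (ZMod.intCast_zmod_eq_zero_iff_dvd _ p).mpr (dvd_of_zsmul_eq_zero hw0' (hM w) h2)
    push_cast at h3
    rw [ZMod.pow_card, sub_add_cancel_left, neg_eq_zero] at h3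
    obtain ⟨c, hc⟩ := (ZMod.intCast_zmod_eq_zero_iff_dvd _ p).mp h3
    rw [hk, hc, mul_comm, mul_smul, natCast_zsmul, hM, smul_zero]
  have hTT : ∀ x, T (T x) = 0 := fun x => by
    obtain ⟨k, hk⟩ := hr x
    rw [hk, map_zsmul, hw, smul_zero]
  have ha' : ∀ x, ρ a⁻¹ x = x - T x := fun x => by
    have h : ρ a (x - T x) = x := by
      have h1 := hTT x
      rw [hT (T x), sub_eq_zero] at h1
      rw [map_sub, h1, hT]; abel
    calc ρ a⁻¹ x = ρ a⁻¹ (ρ a (x - T x)) := by rw [h]
      _ = x - T x := by rw [← rho_mul, inv_mul_cancel, rho_one]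
  have haa : ∀ x, ρ a x = x + T x := fun x => by rw [hT]; abel
  have key : ∀ s ∈ Q, ∀ x, T (ρ s (T x)) = 0 := by
    intro s hs
    refine rank_one_sq hodd hM (s := show M →+ M from ρ s) hr hw fun x => ?_
    have hs' : a * s * a⁻¹ ∈ Q := (Subgroup.mem_normalizer_iff.mp haQ s).mp hs
    have h := congrArg Subtype.val (mul_comm' (⟨s, hs⟩ : Q) ⟨_, hs'⟩)
    simp only [Subgroup.coe_mul] at h
    have h2 := congrArg (fun y : X => ρ y x) h
    simp only [rho_mul, ha', haa] at h2
    exact h2
  intro r hrQ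
  have hc : r⁻¹ * (a * r * a⁻¹) = 1 := by
    set c := r⁻¹ * (a * r * a⁻¹) with hc
    have hcQ : c ∈ Q := mul_mem (inv_mem hrQ) ((Subgroup.mem_normalizer_iff.mp haQ r).mp hrQ)
    have hri : ∀ x, ρ r⁻¹ (ρ r x) = x := fun x => by rw [← rho_mul, inv_mul_cancel, rho_one]
    have hN : ∀ x, ρ c x = x + (ρ r⁻¹ (T (ρ r x)) - T x) := fun x => by
      simp only [hc, rho_mul, ha', haa, map_sub, key r hrQ, sub_zero, map_add, map_zero, hri]
      abel
    have hsq : ∀ x, ρ r⁻¹ (T (ρ r (ρ r⁻¹ (T (ρ r x)) - T x))) -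
        T (ρ r⁻¹ (T (ρ r x)) - T x) = 0 := fun x => by
      have h2 : ρ r (ρ r⁻¹ (T (ρ r x))) = T (ρ r x) := by
        rw [← rho_mul, mul_inv_cancel, rho_one]
      simp only [map_sub, h2, hTT, key r hrQ, key r⁻¹ (inv_mem hrQ), sub_self, map_zero]
    have hiter : ∀ n : ℕ, ∀ x, ρ (c ^ n) x = x + n • (ρ r⁻¹ (T (ρ r x)) - T x) := by
      intro n
      induction n with
      | zero => intro x; simp [rho_one]
      | succ n ih =>
        intro x
        rw [pow_succ, rho_mul, hN, map_add, ih, ih (ρ r⁻¹ (T (ρ r x)) - T x), hsq, nsmul_zero,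
          succ_nsmul]
        abel
    have hcp : c ^ p = 1 := hinj (by
      rw [map_one]; ext x
      rw [hiter, hM, add_zero]; rfl)
    have h1 : orderOf c ∣ Nat.card Q := by
      rw [← Subgroup.orderOf_mk c hcQ]; exact orderOf_dvd_natCard _
    exact orderOf_eq_one_iff.mp
      (Nat.eq_one_of_dvd_coprimes hQ h1 (orderOf_dvd_of_pow_eq_one hcp))
  rw [inv_mul_eq_one] at hc
  rw [eq_comm]
  nth_rw 1 [hc]
  group

/-- The offender inequality, given that transvections centralise `Q`. -/
theorem mul_card_le_index_of [Finite X] [Finite M] (hodd : p ≠ 2) (hinj : Function.Injective ρ)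
    (hM : ∀ x : M, p • x = 0) {Q : Subgroup X}
    (hQ : (Nat.card Q).Coprime p) {A : Subgroup X} (hA : ∀ a ∈ A, a ^ p = 1)
    [IsMulCommutative A] (hAQ : A ≤ Subgroup.normalizer (Q : Set X)) (hne : A ≠ ⊥)
    (hfaith : ∀ a ∈ A, (∀ r ∈ Q, a * r = r * a) → a = 1)
    (hcom : ∀ a ∈ A, (fixed ρ (Subgroup.zpowers a)).index ≤ p → ∀ r ∈ Q, a * r = r * a) :
    p * Nat.card A ≤ (fixed ρ A).index := by
  obtain ⟨n, hn⟩ : ∃ n, Nat.card A = n := ⟨_, rfl⟩
  rw [hn]
  induction n using Nat.strong_induction_on generalizing A with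
  | _ n ih =>
    have hAp : IsPGroup p A := fun a => ⟨1, Subtype.ext (by simpa using hA a a.2)⟩
    obtain ⟨m, hm⟩ := IsPGroup.iff_card.mp hAp
    have hm0 : m ≠ 0 := fun h => hne (Subgroup.card_eq_one.mp (by rw [hm, h, pow_zero]))
    have hdiv : ∀ N : AddSubgroup M, ∃ i, N.index = p ^ i := fun N => by
      have hMp : IsPGroup p (Multiplicative M) := fun x => ⟨1, by
        rw [pow_one]; exact hM x.toAdd⟩
      obtain ⟨i, hi⟩ := hMp.index N.toSubgroup
      exact ⟨i, by rw [← hi, AddSubgroup.index_toSubgroup]⟩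
    have hprime : ∀ x ∈ A, ∀ y ∈ Subgroup.zpowers x, y ≠ 1 → x ∈ Subgroup.zpowers y := by
      intro x hx y hy hy1
      have hx1 : x ≠ 1 := fun h => hy1 (by simpa [h] using hy)
      obtain ⟨k, rfl⟩ := Subgroup.mem_zpowers_iff.mp hy
      have ho := orderOf_eq_prime (hA x hx) hx1
      have h1 : Subgroup.zpowers (x ^ k) = Subgroup.zpowers x := by
        refine Subgroup.eq_of_le_of_card_ge
          (Subgroup.zpowers_le.mpr (zpow_mem (Subgroup.mem_zpowers x) k)) ?_
        rw [Nat.card_zpowers, Nat.card_zpowers, ho,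
          orderOf_eq_prime (hA _ (zpow_mem hx k)) hy1]
      rw [h1]; exact Subgroup.mem_zpowers x
    have hAc : ∀ x ∈ A, ∀ y ∈ A, x * y = y * x := fun x hx y hy =>
      congrArg Subtype.val (mul_comm' (⟨x, hx⟩ : A) ⟨y, hy⟩)
    have hAcl : ∀ B : Subgroup X, B ≤ A → A ≤ Subgroup.normalizer (B : Set X) := fun B hB x hx => by
      rw [Subgroup.mem_normalizer_iff]
      intro y
      constructor
      · intro hy
        rwa [hAc x hx y (hB hy), mul_inv_cancel_right]
      · intro hy
        have hyA : y ∈ A := by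
          have := A.mul_mem (A.mul_mem (A.inv_mem hx) (hB hy)) hx
          simpa [mul_assoc] using this
        rwa [hAc x hx y hyA, mul_inv_cancel_right] at hy
    obtain ⟨a₁, ha₁, r₁, hr₁, hne₁⟩ : ∃ a ∈ A, ∃ r ∈ Q, a * r ≠ r * a := by
      by_contra hno
      push Not at hno
      exact hne ((Subgroup.eq_bot_iff_forall A).mpr fun a ha => hfaith a ha fun r hr => hno a ha r hr)
    obtain ⟨B, ⟨hBA, r, hr, hBr, a₀, ha₀, har₀⟩, hBmax⟩ :=
      WellFounded.has_min (wellFounded_gt (α := Subgroup X))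
        {B | B ≤ A ∧ ∃ r ∈ Q, (∀ b ∈ B, b * r = r * b) ∧ ∃ a ∈ A, a * r ≠ r * a}
        ⟨⊥, bot_le, r₁, hr₁, fun b hb => by simp [Subgroup.mem_bot.mp hb], a₁, ha₁, hne₁⟩
    obtain ⟨x, hxA, hxB⟩ : ∃ x ∈ A, x ∉ B := ⟨a₀, ha₀, fun h => har₀ (hBr a₀ h)⟩
    have htop : B ⊔ Subgroup.zpowers x = A := by
      refine le_antisymm (sup_le hBA (Subgroup.zpowers_le.mpr hxA)) fun y hyA => ?_
      by_contra hy
      let A₁ := Subgroup.zpowers x ⊔ Subgroup.zpowers y
      have hA₁A : A₁ ≤ A := sup_le (Subgroup.zpowers_le.mpr hxA) (Subgroup.zpowers_le.mpr hyA)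
      have hA₁B : ∀ b ∈ A₁, b ∈ B → b = 1 := by
        intro b hb hbB
        obtain ⟨u, hu, v, hv, rfl⟩ := (Cfsg.Lib.Coprime.mem_sup_of_le_normalizer
          ((Subgroup.zpowers_le.mpr hyA).trans (hAcl _ (Subgroup.zpowers_le.mpr hxA)))).mp hb
        by_cases hv1 : v = 1
        · subst hv1
          rw [mul_one] at hbB ⊢
          by_contra hu1
          exact hxB (Subgroup.zpowers_le.mpr hbB (hprime x hxA u hu hu1))
        · refine absurd (Subgroup.zpowers_le.mpr ?_ (hprime y hyA v hv hv1)) hy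
          have : v = u⁻¹ * (u * v) := by group
          rw [this]
          exact mul_mem (inv_mem (Subgroup.mem_sup_right hu)) (Subgroup.mem_sup_left hbB)
      have hncyc : ¬ IsCyclic A₁ := fun hc => by
        have hx1 : x ≠ 1 := fun h => hxB (h ▸ one_mem B)
        obtain ⟨g, hg⟩ := hc.exists_generator
        have hcard : Nat.card A₁ ≤ p := by
          rw [← orderOf_eq_card_of_forall_mem_zpowers hg, ← Subgroup.orderOf_coe]
          exact Nat.le_of_dvd hp.out.pos (orderOf_dvd_of_pow_eq_one (hA _ (hA₁A g.2)))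
        have heq : Subgroup.zpowers x = A₁ := Subgroup.eq_of_le_of_card_ge le_sup_left
          (by rw [Nat.card_zpowers, orderOf_eq_prime (hA x hxA) hx1]; exact hcard)
        exact hy (Subgroup.mem_sup_right (heq.symm ▸
          (Subgroup.mem_sup_right (Subgroup.mem_zpowers y) : y ∈ A₁)))
      haveI : IsMulCommutative A₁ := ⟨⟨fun u v => Subtype.ext (hAc u (hA₁A u.2) v (hA₁A v.2))⟩⟩
      let K := Q ⊓ Subgroup.centralizer (B : Set X)
      have hAK : A ≤ Subgroup.normalizer (K : Set X) :=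
        Cfsg.Lib.Coprime.le_normalizer_inf hAQ fun u hu => by
          rw [Subgroup.mem_normalizer_iff]
          have hf : ∀ u ∈ A, ∀ z ∈ Subgroup.centralizer (B : Set X),
              u * z * u⁻¹ ∈ Subgroup.centralizer (B : Set X) := by
            intro u hu z hz
            rw [Subgroup.mem_centralizer_iff] at hz ⊢
            intro b hb
            have hub : Commute u⁻¹ b := hAc _ (inv_mem hu) b (hBA hb)
            have hzb : Commute z b := (hz b hb).symm
            have hub' : Commute u b := hAc _ hu b (hBA hb)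
            exact ((hub'.mul_left hzb).mul_left hub).eq.symm
          intro z
          refine ⟨hf u hu z, fun hz => ?_⟩
          have := hf u⁻¹ (inv_mem hu) _ hz
          simpa [mul_assoc] using this
      obtain ⟨m, hm⟩ := IsPGroup.iff_card.mp (hAp.to_le hA₁A)
      have hcop : (Nat.card A₁).Coprime (Nat.card K) := by
        rw [hm]
        exact ((hQ.coprime_dvd_left (Subgroup.card_dvd_of_le inf_le_left)).symm).pow_left m
      have hgen := Cfsg.Lib.Coprime.centralizerJoin_eq hncyc (hA₁A.trans hAK) hcop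
      have hrK : r ∈ Cfsg.Lib.Coprime.centralizerJoin A₁ K := by
        rw [hgen]; exact ⟨hr, Subgroup.mem_centralizer_iff.mpr hBr⟩
      refine har₀ ?_
      have hle : Cfsg.Lib.Coprime.centralizerJoin A₁ K ≤ Subgroup.centralizer (A : Set X) := by
        refine iSup₂_le fun b hb' => ?_
        obtain ⟨hb, hb1⟩ := hb'
        intro z hz
        rw [Subgroup.mem_inf, Subgroup.mem_centralizer_singleton_iff] at hz
        obtain ⟨⟨hzQ, hzB⟩, hzb⟩ := hz
        rw [Subgroup.mem_centralizer_iff]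
        intro u hu
        by_contra hcon
        refine hBmax (B ⊔ Subgroup.zpowers b) ⟨sup_le hBA (Subgroup.zpowers_le.mpr (hA₁A hb)),
          z, hzQ, fun c hc => ?_, u, hu, hcon⟩ (lt_of_le_of_ne le_sup_left fun h => hb1
            (hA₁B b hb (h ▸ Subgroup.mem_sup_right (Subgroup.mem_zpowers b))))
        have h1 : B ⊔ Subgroup.zpowers b ≤ Subgroup.centralizer ({z} : Set X) :=
          sup_le (fun c hc => Subgroup.mem_centralizer_singleton_iff.mpr
            (Subgroup.mem_centralizer_iff.mp hzB c hc))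
            (Subgroup.zpowers_le.mpr (Subgroup.mem_centralizer_singleton_iff.mpr hzb.symm))
        exact Subgroup.mem_centralizer_singleton_iff.mp (h1 hc)
      exact Subgroup.mem_centralizer_iff.mp (hle hrK) a₀ ha₀
    have hinf : B ⊓ Subgroup.zpowers x = ⊥ := by
      rw [Subgroup.eq_bot_iff_forall]
      rintro u ⟨huB, hux⟩
      by_contra hu1
      exact hxB (Subgroup.zpowers_le.mpr huB (hprime x hxA u hux hu1))
    have hx1 : x ≠ 1 := fun h => hxB (h ▸ one_mem B)
    have hcard : n = Nat.card B * p := by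
      rw [← hn, ← htop, Cfsg.Lib.Coprime.card_sup_of_inf_eq_bot
        ((Subgroup.zpowers_le.mpr hxA).trans (hAcl B hBA)) hinf, Nat.card_zpowers,
        orderOf_eq_prime (hA x hxA) hx1]
    by_cases hB : B = ⊥
    · subst hB
      rw [bot_sup_eq] at htop
      rw [Subgroup.card_bot, one_mul] at hcard
      obtain ⟨i, hi⟩ := hdiv (fixed ρ A)
      rw [hcard, hi, ← pow_two]
      refine Nat.pow_le_pow_right hp.out.pos (not_lt.mp fun hlt => har₀ ?_)
      have hcomm := hcom x hxA (by
        rw [htop, hi]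
        calc p ^ i ≤ p ^ 1 := Nat.pow_le_pow_right hp.out.pos (by omega)
          _ = p := pow_one p)
      rw [← htop] at ha₀
      obtain ⟨k, rfl⟩ := Subgroup.mem_zpowers_iff.mp ha₀
      exact (Commute.zpow_left (hcomm r hr) k).eq
    haveI : IsMulCommutative B := ⟨⟨fun u v => Subtype.ext (hAc u (hBA u.2) v (hBA v.2))⟩⟩
    have hIH := ih (Nat.card B) (by
      rw [hcard]; exact lt_mul_of_one_lt_right Nat.card_pos hp.out.one_lt)
      (fun b hb => hA b (hBA hb)) (hBA.trans hAQ) hB (fun b hb => hfaith b (hBA hb)) (fun b hb => hcom b (hBA hb)) rfl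
    have hlt : fixed ρ A < fixed ρ B := by
      refine lt_of_le_of_ne (fixed_anti ρ hBA) fun heq => har₀ ?_
      have hc : ⁅a₀, r⁆ = 1 := by
        have hcQ : ⁅a₀, r⁆ ∈ Q := mul_mem ((Subgroup.mem_normalizer_iff.mp (hAQ ha₀) r).mp hr)
          (inv_mem hr)
        refine eq_one_of_fixed ρ hinj hM (B := B) (hAp.to_le hBA) ?_ ?_ ?_
        · refine hQ.coprime_dvd_left ?_
          rw [← Subgroup.orderOf_mk _ hcQ]; exact orderOf_dvd_natCard _
        · intro b hb
          have h1 : Commute b a₀ := hAc b (hBA hb) a₀ ha₀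
          have h2 : Commute b r := hBr b hb
          rw [commutatorElement_def]
          exact (((h1.mul_right h2).mul_right h1.inv_right).mul_right h2.inv_right).eq
        · intro z hz
          have hzA : z ∈ fixed ρ A := heq.symm ▸ hz
          have hrz : ρ r z ∈ fixed ρ B := fun b hb => by
            rw [← rho_mul, hBr b hb, rho_mul, hz b hb]
          have hr'z : ρ r⁻¹ z ∈ fixed ρ B := fun b hb => by
            rw [← rho_mul, (Commute.inv_right (hBr b hb)).eq, rho_mul, hz b hb]
          rw [← heq] at hrz hr'z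
          rw [commutatorElement_def, rho_mul, rho_mul, rho_mul, hr'z a₀⁻¹ (inv_mem ha₀),
            ← rho_mul (ρ := ρ) r r⁻¹ z, mul_inv_cancel, rho_one, hzA a₀ ha₀]
      exact commutatorElement_eq_one_iff_mul_comm.mp hc
    have h1 : 1 < (fixed ρ A).relIndex (fixed ρ B) := by
      rcases Nat.lt_or_ge 1 ((fixed ρ A).relIndex (fixed ρ B)) with h | h
      · exact h
      · have h0 : (fixed ρ A).relIndex (fixed ρ B) ≠ 0 := AddSubgroup.index_ne_zero_of_finite
        exact absurd (AddSubgroup.relIndex_eq_one.mp (by omega)) hlt.not_ge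
    obtain ⟨i, hi⟩ := hdiv (fixed ρ A)
    rw [← AddSubgroup.relIndex_mul_index hlt.le] at hi ⊢
    obtain ⟨j, -, hj⟩ := (Nat.dvd_prime_pow hp.out).mp (hi ▸ dvd_mul_right ((fixed ρ A).relIndex (fixed ρ B)) _)
    have hp' : p ≤ (fixed ρ A).relIndex (fixed ρ B) := by
      rcases j with _ | j
      · rw [hj] at h1; simp at h1
      · rw [hj, pow_succ]; exact Nat.le_mul_of_pos_left _ (pow_pos hp.out.pos j)
    calc p * n = p * (p * Nat.card B) := by rw [hcard]; ring
      _ ≤ _ := Nat.mul_le_mul hp' hIH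

/-- The offender inequality. -/
theorem mul_card_le_index [Finite X] [Finite M] (hodd : p ≠ 2) (hinj : Function.Injective ρ)
    (hM : ∀ x : M, p • x = 0) {Q : Subgroup X} [IsMulCommutative Q]
    (hQ : (Nat.card Q).Coprime p) {A : Subgroup X} (hA : ∀ a ∈ A, a ^ p = 1)
    [IsMulCommutative A] (hAQ : A ≤ Subgroup.normalizer (Q : Set X)) (hne : A ≠ ⊥)
    (hfaith : ∀ a ∈ A, (∀ r ∈ Q, a * r = r * a) → a = 1) :
    p * Nat.card A ≤ (fixed ρ A).index :=
  mul_card_le_index_of ρ hodd hinj hM hQ hA hAQ hne hfaith fun _ ha hidx =>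
    commute_of_index_le ρ hodd hinj hM (hA _ ha) hQ (hAQ ha) hidx

end Cfsg.Lib.Thompson
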