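/-
In a group with faithful linear action in odd characteristic `p`, a transvection centralises every
`p'`-subgroup it normalises, unless `p = 3` and the Sylow 2-subgroups are non-abelian.
-/
import Cfsg.Agent.Thompson.Quadratic
import Mathlib

set_option autoImplicit false
set_option linter.unusedSectionVars false
set_option linter.style.haveILetI false

namespace Cfsg.Lib.Thompson

open Matrix
open scoped commutatorElement

universe u v

/-- The two commutators do not commute. -/
theorem quaternion_key :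
    let u : Matrix (Fin 2) (Fin 2) (ZMod 3) := !![1, 1; 0, 1]
    let u' : Matrix (Fin 2) (Fin 2) (ZMod 3) := !![1, -1; 0, 1]
    let l : Matrix (Fin 2) (Fin 2) (ZMod 3) := !![1, 0; 1, 1]
    let l' : Matrix (Fin 2) (Fin 2) (ZMod 3) := !![1, 0; -1, 1]
    u * l * u' * l' * (u * l' * u' * l) ≠ u * l' * u' * l * (u * l * u' * l') := by
  decide

variable {p : ℕ} [hp : Fact p.Prime]

section Matrices

/-- The upper unipotent matrix. -/
def upperU : GL (Fin 2) (ZMod p) :=
  ⟨!![1, 1; 0, 1], !![1, -1; 0, 1], by simp [Matrix.mul_fin_two, Matrix.one_fin_two],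
    by simp [Matrix.mul_fin_two, Matrix.one_fin_two]⟩

/-- The lower unipotent matrix. -/
def lowerU : GL (Fin 2) (ZMod p) :=
  ⟨!![1, 0; 1, 1], !![1, 0; -1, 1], by simp [Matrix.mul_fin_two, Matrix.one_fin_two],
    by simp [Matrix.mul_fin_two, Matrix.one_fin_two]⟩

theorem upperU_pow (n : ℕ) : ((upperU ^ n : GL (Fin 2) (ZMod p)) : Matrix (Fin 2) (Fin 2) (ZMod p)) = !![1, (n : ZMod p); 0, 1] := by
  induction n with
  | zero => simp [Matrix.one_fin_two]
  | succ n ih =>
    rw [pow_succ, Units.val_mul, ih]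
    simp [upperU, Matrix.mul_fin_two, add_comm]

theorem lowerU_pow (n : ℕ) : ((lowerU ^ n : GL (Fin 2) (ZMod p)) : Matrix (Fin 2) (Fin 2) (ZMod p)) = !![1, 0; (n : ZMod p), 1] := by
  induction n with
  | zero => simp [Matrix.one_fin_two]
  | succ n ih =>
    rw [pow_succ, Units.val_mul, ih]
    simp [lowerU, Matrix.mul_fin_two, add_comm]

/-- Two opposite unipotent elements do not lie in a group with a normal `p'`-subgroup with abelian
quotient, unless `p = 3` and a Sylow 2-subgroup is non-abelian. -/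
theorem no_sl2 (hodd : p ≠ 2) {H : Type u} [Group H] [Finite H] (θ : H →* GL (Fin 2) (ZMod p))
    (Q : Subgroup H) (hQ : (Nat.card Q).Coprime p) (hcomm : ∀ x y : H, ⁅x, y⁆ ∈ Q)
    (h3 : p = 3 → ∀ T : Subgroup H, IsPGroup 2 T → IsMulCommutative T)
    {x y : H} (hx : θ x = upperU) (hy : θ y = lowerU) : False := by
  classical
  have himg : ∀ q ∈ Q, (orderOf (θ q)).Coprime p := fun q hq =>
    Nat.Coprime.coprime_dvd_left ((orderOf_map_dvd θ q).trans (Subgroup.orderOf_dvd_natCard Q hq)) hQ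
  have hdet : ∀ n : ℕ, (upperU : GL (Fin 2) (ZMod p)) ^ n ≠ 1 ∨ (n : ZMod p) = 0 := fun n => by
    by_cases h : (n : ZMod p) = 0
    · exact Or.inr h
    · refine Or.inl fun h' => h ?_
      have := congrArg (fun g : GL (Fin 2) (ZMod p) => (g : Matrix (Fin 2) (Fin 2) (ZMod p)) 0 1) h'
      simp only [upperU_pow, Units.val_one] at this
      simpa using this
  rcases Decidable.em (p = 3) with rfl | hp3
  · -- the two commutators generate a quaternion group
    let e₁ : Q := ⟨⁅x, y⁆, hcomm x y⟩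
    let e₂ : Q := ⟨⁅x, y⁻¹⁆, hcomm x y⁻¹⟩
    let f : Q →* GL (Fin 2) (ZMod 3) := θ.comp Q.subtype
    have h2 : IsPGroup 2 f.range := by
      have hc : Nat.card (GL (Fin 2) (ZMod 3)) = 48 := by
        rw [Matrix.card_GL_field, ZMod.card, Fin.prod_univ_two]; rfl
      have h1 : Nat.card f.range ∣ 16 := by
        have h48 : Nat.card f.range ∣ 16 * 3 := by
          rw [show 16 * 3 = 48 by norm_num, ← hc]; exact Subgroup.card_subgroup_dvd_card _
        exact (hQ.coprime_dvd_left (Subgroup.card_range_dvd f)).dvd_of_dvd_mul_right h48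
      obtain ⟨i, -, hi⟩ := (Nat.dvd_prime_pow Nat.prime_two).1 (show Nat.card f.range ∣ 2 ^ 4 from h1)
      exact IsPGroup.of_card hi
    haveI := Fact.mk Nat.prime_two
    obtain ⟨T⟩ : Nonempty (Sylow 2 Q) := inferInstance
    have hsurj := f.rangeRestrict_surjective
    set T' := T.mapSurjective hsurj with hT'
    have htop : (T' : Subgroup f.range) = ⊤ :=
      (T'.is_maximal' (Q := ⊤) (h2.of_equiv Subgroup.topEquiv.symm) le_top).symm
    obtain ⟨t₁, ht₁, ht₁'⟩ : f.rangeRestrict e₁ ∈ (T : Subgroup Q).map f.rangeRestrict := by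
      rw [← Sylow.coe_mapSurjective hsurj T, ← hT', htop]; exact Subgroup.mem_top _
    obtain ⟨t₂, ht₂, ht₂'⟩ : f.rangeRestrict e₂ ∈ (T : Subgroup Q).map f.rangeRestrict := by
      rw [← Sylow.coe_mapSurjective hsurj T, ← hT', htop]; exact Subgroup.mem_top _
    haveI := h3 rfl ((T : Subgroup Q).map Q.subtype) (T.2.map _)
    have hc12 : t₁ * t₂ = t₂ * t₁ := by
      refine Subtype.ext ?_
      have h' := congrArg Subtype.val (mul_comm'
        (⟨(t₁ : H), ⟨t₁, ht₁, rfl⟩⟩ : (T : Subgroup Q).map Q.subtype) ⟨(t₂ : H), ⟨t₂, ht₂, rfl⟩⟩)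
      simpa using h'
    have h := congrArg f hc12
    rw [map_mul, map_mul, show f t₁ = f e₁ from congrArg Subtype.val ht₁',
      show f t₂ = f e₂ from congrArg Subtype.val ht₂'] at h
    have key : ((⁅(upperU (p := 3)), (lowerU (p := 3))⁆ * ⁅(upperU (p := 3)), (lowerU (p := 3))⁻¹⁆ : GL (Fin 2) (ZMod 3)) : Matrix (Fin 2) (Fin 2) (ZMod 3)) ≠
        ((⁅(upperU (p := 3)), (lowerU (p := 3))⁻¹⁆ * ⁅(upperU (p := 3)), (lowerU (p := 3))⁆ : GL (Fin 2) (ZMod 3)) : Matrix (Fin 2) (Fin 2) (ZMod 3)) := by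
      simp only [commutatorElement_def, inv_inv, Units.val_mul]
      exact quaternion_key
    refine key (congrArg Units.val ?_)
    simpa [f, e₁, e₂, map_commutatorElement, hx, hy] using h
  · -- a commutator is a nontrivial unipotent element
    have hp5 : 5 ≤ p := hp.out.five_le_of_ne_two_of_ne_three hodd hp3
    set c : ℕ := ((2 : ZMod p)⁻¹).val
    have h2 : (2 : ZMod p) ≠ 0 := by
      intro h
      have := (ZMod.natCast_eq_zero_iff 2 p).1 (by exact_mod_cast h)
      have := Nat.le_of_dvd (by norm_num) this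
      omega
    have hc : ((c : ℕ) : ZMod p) * 2 = 1 := by rw [ZMod.natCast_zmod_val, inv_mul_cancel₀ h2]
    set h : H := x ^ 2 * (y ^ c)⁻¹ * x ^ 2 * (x * y⁻¹ * x)⁻¹ with hh
    have hmem := himg _ (hcomm h x)
    have hcc : ((c : ℕ) : ZMod p) + c = 1 := by linear_combination hc
    have hW : θ h * upperU = (upperU : GL (Fin 2) (ZMod p)) ^ 4 * θ h := by
      refine Units.ext ?_
      rw [hh]
      simp only [map_mul, map_inv, map_pow, hx, hy, _root_.mul_inv_rev, inv_inv, Units.val_mul, upperU_pow]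
      have hi : (((lowerU : GL (Fin 2) (ZMod p)) ^ c)⁻¹ : GL (Fin 2) (ZMod p)).val = !![1, 0; -(c : ZMod p), 1] := by
        refine Units.inv_eq_of_mul_eq_one_right ?_
        rw [lowerU_pow]
        simp [Matrix.mul_fin_two, Matrix.one_fin_two]
      rw [hi]
      simp only [upperU, lowerU, Units.inv_mk, Units.val_mk, Matrix.mul_fin_two]
      ext i j
      fin_cases i <;> fin_cases j <;> simp <;> grind
    have he : θ ⁅h, x⁆ = (upperU : GL (Fin 2) (ZMod p)) ^ 3 := by
      rw [map_commutatorElement, hx, commutatorElement_def, hW, mul_inv_cancel_right, pow_succ,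
        mul_inv_cancel_right]
    rw [he] at hmem
    have h3' : ((upperU : GL (Fin 2) (ZMod p)) ^ 3) ^ p = 1 := by
      refine Units.ext ?_
      rw [← pow_mul, upperU_pow]
      simp [Matrix.one_fin_two]
    have h4 : (upperU : GL (Fin 2) (ZMod p)) ^ 3 = 1 :=
      orderOf_eq_one_iff.1 (Nat.eq_one_of_dvd_coprimes hmem dvd_rfl (orderOf_dvd_of_pow_eq_one h3'))
    have h5 := (ZMod.natCast_eq_zero_iff 3 p).1 ((hdet 3).resolve_left (not_not.2 h4))
    have := Nat.le_of_dvd (by norm_num) h5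
    omega

end Matrices

section Linear

variable {M : Type v} [AddCommGroup M] {X : Type u} [Group X] (ρ : X →* AddMonoid.End M)

/-- `ρ a` is a transvection with centre `w`. -/
def IsTransvection (a : X) (w : M) : Prop := ρ a w = w ∧ ∀ x, ∃ k : ℤ, ρ a x = x + k • w

theorem IsTransvection.conj {a : X} {w : M} (h : IsTransvection ρ a w) (r : X) :
    IsTransvection ρ (r * a * r⁻¹) (ρ r w) := by
  have hri : ∀ x, ρ r⁻¹ (ρ r x) = x := fun x => by rw [← rho_mul, inv_mul_cancel, rho_one]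
  refine ⟨by rw [rho_mul, rho_mul, hri, h.1], fun x => ?_⟩
  obtain ⟨k, hk⟩ := h.2 (ρ r⁻¹ x)
  exact ⟨k, by rw [rho_mul, rho_mul, hk, map_add, map_zsmul, ← rho_mul, mul_inv_cancel, rho_one]⟩

theorem IsTransvection.inv_apply {a : X} {w : M} (h : IsTransvection ρ a w) (x : M) :
    ∃ k : ℤ, ρ a⁻¹ x = x + k • w := by
  have hiw : ρ a⁻¹ w = w := by conv_lhs => rw [← h.1, ← rho_mul, inv_mul_cancel, rho_one]
  obtain ⟨k, hk⟩ := h.2 x
  refine ⟨-k, ?_⟩
  have := congrArg (ρ a⁻¹) hk
  rw [← rho_mul, inv_mul_cancel, rho_one, map_add, map_zsmul, hiw] at this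
  rw [neg_smul, ← sub_eq_add_neg, eq_sub_iff_add_eq]
  exact this.symm

/-- Transvections that differ by a `p'`-element are equal if one fixes the centre of the other. -/
theorem eq_of_fix_center (hodd : p ≠ 2) (hinj : Function.Injective ρ) (hM : ∀ x : M, p • x = 0)
    {a a' : X} {w w' : M} (h : IsTransvection ρ a w) (h' : IsTransvection ρ a' w') (hfix : ρ a w' = w')
    (hcop : (orderOf (a' * a⁻¹)).Coprime p) : a' = a := by
  set c := a' * a⁻¹
  let N : M →+ M := (show M →+ M from ρ c) - AddMonoidHom.id M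
  have hN : ∀ x, N x = ρ c x - x := fun x => rfl
  have hiw : ρ a⁻¹ w = w := by conv_lhs => rw [← h.1, ← rho_mul, inv_mul_cancel, rho_one]
  have hiw' : ρ a⁻¹ w' = w' := by conv_lhs => rw [← hfix, ← rho_mul, inv_mul_cancel, rho_one]
  have hNw' : N w' = 0 := by rw [hN, rho_mul, hiw', h'.1, sub_self]
  have hN3 : ∀ x, N (N (N x)) = 0 := by
    intro x
    obtain ⟨k, hk⟩ := h.inv_apply ρ x
    obtain ⟨l, hl⟩ := h'.2 (ρ a⁻¹ x)
    obtain ⟨m, hm⟩ := h'.2 w
    have h1 : N x = l • w' + k • w := by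
      rw [hN, rho_mul, hl]
      conv_lhs => rw [hk]
      abel
    have h2 : N w = m • w' := by rw [hN, rho_mul, hiw, hm, add_sub_cancel_left]
    simp [h1, h2, hNw']
  have hiter : ∀ n : ℕ, ∀ x, ρ (c ^ n) x = x + n • N x + n.choose 2 • N (N x) := by
    intro n
    induction n with
    | zero => intro x; simp [rho_one]
    | succ n ih =>
      intro x
      have hc : ∀ z, ρ c z = z + N z := fun z => by rw [hN]; abel
      rw [pow_succ', rho_mul, ih, hc, map_add, map_add, map_nsmul, map_nsmul, hN3, nsmul_zero,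
        add_zero, show (n + 1).choose 2 = n + n.choose 2 by rw [Nat.choose_succ_succ', Nat.choose_one_right],
        add_smul n]
      simp only [add_smul, one_smul]
      abel
  have hcp : c ^ p = 1 := hinj (by
    rw [map_one]
    ext x
    rw [hiter, hM, add_zero]
    obtain ⟨e, he⟩ := hp.out.dvd_choose_self (k := 2) (by norm_num) (lt_of_le_of_ne hp.out.two_le (Ne.symm hodd))
    rw [he, mul_nsmul, hM, nsmul_zero, add_zero]
    rfl)
  exact mul_inv_eq_one.1 (orderOf_eq_one_iff.1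
    (Nat.eq_one_of_dvd_coprimes hcop dvd_rfl (orderOf_dvd_of_pow_eq_one hcp)))

/-- A transvection centralises every `p'`-subgroup it normalises, unless `p = 3` and some 2-subgroup
is non-abelian. -/
theorem commute_of_transvection_aux [Module (ZMod p) M] [Finite X] (hodd : p ≠ 2) (hinj : Function.Injective ρ)
    (hM : ∀ x : M, p • x = 0) {a : X} {w : M} (ha : IsTransvection ρ a w) {Q : Subgroup X}
    (hQ : (Nat.card Q).Coprime p) (haQ : a ∈ Subgroup.normalizer (Q : Set X))
    (h3 : p = 3 → ∀ T : Subgroup X, IsPGroup 2 T → IsMulCommutative T) : ∀ r ∈ Q, a * r = r * a := by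
  intro r hr
  suffices heq : r * a * r⁻¹ = a by
    calc a * r = (r * a * r⁻¹) * r := by rw [heq]
      _ = r * a := by group
  set a' := r * a * r⁻¹ with ha'
  set w' := ρ r w
  have hcQ : a' * a⁻¹ ∈ Q := by
    have h1 := (Subgroup.mem_normalizer_iff.1 haQ r⁻¹).1 (inv_mem hr)
    rw [ha', show r * a * r⁻¹ * a⁻¹ = r * (a * r⁻¹ * a⁻¹) by group]
    exact mul_mem hr h1
  have hcop : ∀ z ∈ Q, (orderOf z).Coprime p := fun z hz =>
    Nat.Coprime.coprime_dvd_left (Subgroup.orderOf_dvd_natCard Q hz) hQ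
  have hT' := ha.conj ρ r
  rw [← ha'] at hT'
  by_cases hfix : ρ a w' = w'
  · exact eq_of_fix_center ρ hodd hinj hM ha hT' hfix (hcop _ hcQ)
  by_cases hfix' : ρ a' w = w
  · refine (eq_of_fix_center ρ hodd hinj hM hT' ha hfix' (hcop _ ?_)).symm
    have := inv_mem hcQ
    rwa [_root_.mul_inv_rev, inv_inv] at this
  exfalso
  obtain ⟨k, hk⟩ := ha.2 w'
  obtain ⟨l, hl⟩ := hT'.2 w
  have hks : ∀ (k : ℤ) (x : M), k • x = (k : ZMod p) • x := fun k x => (Int.cast_smul_eq_zsmul (ZMod p) k x).symm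
  rw [hks] at hk hl
  set α : ZMod p := (k : ZMod p)
  set β : ZMod p := (l : ZMod p)
  have hα : α ≠ 0 := fun h => hfix (by rw [hk, h, zero_smul, add_zero])
  have hβ : β ≠ 0 := fun h => hfix' (by rw [hl, h, zero_smul, add_zero])
  have hlin : ∀ (g : X) (c : ZMod p) (x : M), ρ g (c • x) = c • ρ g x := fun g c x =>
    ZMod.map_smul (show M →+ M from ρ g) c x
  set w₂ := α⁻¹ • w'
  have h1 : ρ a w = w := ha.1
  have h2 : ρ a w₂ = w₂ + w := by
    rw [hlin, hk, smul_add, smul_smul, inv_mul_cancel₀ hα, one_smul]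
  set γ := β * α
  have hγ : γ ≠ 0 := mul_ne_zero hβ hα
  have h3' : ρ a' w₂ = w₂ := by rw [hlin, hT'.1]
  have h4 : ρ a' w = w + γ • w₂ := by rw [hl, smul_smul, mul_assoc, mul_inv_cancel₀ hα, mul_one]
  set y := a' ^ (γ⁻¹).val with hy
  have hpow : ∀ n : ℕ, ρ (a' ^ n) w = w + ((n : ZMod p) * γ) • w₂ ∧ ρ (a' ^ n) w₂ = w₂ := by
    intro n
    induction n with
    | zero => simp [rho_one]
    | succ n ih =>
      refine ⟨?_, by rw [pow_succ', rho_mul, ih.2, h3']⟩
      rw [pow_succ', rho_mul, ih.1, map_add, hlin, h3', h4, Nat.cast_succ, add_mul, one_mul, add_smul]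
      abel
  have h5 : ρ y w = w + w₂ := by
    rw [hy, (hpow _).1, ZMod.natCast_zmod_val, inv_mul_cancel₀ hγ, one_smul]
  have h6 : ρ y w₂ = w₂ := (hpow _).2
  have hw : w ≠ 0 := fun h => hfix' (by rw [h, map_zero])
  have hli : LinearIndependent (ZMod p) ![w, w₂] := by
    refine LinearIndependent.pair_iff.2 fun s t hst => ?_
    have h := congrArg (ρ a) hst
    rw [map_add, hlin, hlin, h1, h2, map_zero, smul_add, ← add_assoc, hst, zero_add] at h
    have hcancel : ∀ c : ZMod p, c • w = 0 → c = 0 := fun c hc => by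
      by_contra hc0
      refine hw ?_
      rw [← one_smul (ZMod p) w, ← inv_mul_cancel₀ hc0, ← smul_smul, hc, smul_zero]
    have ht : t = 0 := hcancel t h
    rw [ht, zero_smul, add_zero] at hst
    exact ⟨hcancel s hst, ht⟩
  let b := Module.Basis.span hli
  have hb : ∀ i, (b i : M) = ![w, w₂] i := fun i => congrArg Subtype.val (Module.Basis.span_apply hli i)
  let W : Submodule (ZMod p) M := Submodule.span (ZMod p) (Set.range ![w, w₂])
  have hwW : (b 0 : M) ∈ W := (b 0).2
  have hw₂W : (b 1 : M) ∈ W := (b 1).2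
  rw [hb] at hwW hw₂W
  simp only [Matrix.cons_val_zero, Matrix.cons_val_one] at hwW hw₂W
  let S : Subgroup X :=
    { carrier := {g | ∀ x ∈ W, ρ g x ∈ W}
      one_mem' := fun x hx => by rwa [rho_one]
      mul_mem' := fun {g h} hg hh x hx => by rw [rho_mul]; exact hg _ (hh x hx)
      inv_mem' := fun {g} hg => by
        obtain ⟨n, hn⟩ : ∃ n, g ^ n = g⁻¹ := ⟨orderOf g - 1, by
          rw [eq_inv_iff_mul_eq_one, ← pow_succ, Nat.sub_add_cancel (orderOf_pos g), pow_orderOf_eq_one]⟩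
        have hall : ∀ m : ℕ, ∀ x ∈ W, ρ (g ^ m) x ∈ W := by
          intro m
          induction m with
          | zero => intro x hx; rwa [pow_zero, rho_one]
          | succ m ihm => intro x hx; rw [pow_succ', rho_mul]; exact hg _ (ihm x hx)
        show ∀ x ∈ W, ρ g⁻¹ x ∈ W
        rw [← hn]
        exact hall n }
  have hmemS : ∀ g, ρ g w ∈ W → ρ g w₂ ∈ W → g ∈ S := fun g g1 g2 x hx => by
    induction hx using Submodule.span_induction with
    | mem z hz =>
      obtain ⟨i, rfl⟩ := hz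
      fin_cases i
      · exact g1
      · exact g2
    | zero => rw [map_zero]; exact zero_mem _
    | add z z' _ _ i1 i2 => rw [map_add]; exact add_mem i1 i2
    | smul c z _ i1 => rw [hlin]; exact W.smul_mem c i1
  set H := Subgroup.closure ({a, a'} : Set X) with hHdef
  have hHS : H ≤ S := (Subgroup.closure_le _).2 (by
    rintro g (rfl | rfl)
    · exact hmemS _ (by rw [h1]; exact hwW) (by rw [h2]; exact add_mem hw₂W hwW)
    · exact hmemS _ (by rw [h4]; exact add_mem hwW (W.smul_mem _ hw₂W)) (by rw [h3']; exact hw₂W))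
  let L : H →* Module.End (ZMod p) W :=
    { toFun := fun g => ((show M →+ M from ρ (g : X)).toZModLinearMap p).restrict (hHS g.2)
      map_one' := LinearMap.ext fun x => Subtype.ext (rho_one ρ _)
      map_mul' := fun g h => LinearMap.ext fun x => Subtype.ext (rho_mul ρ _ _ _) }
  let θ : H →* GL (Fin 2) (ZMod p) :=
    ((LinearMap.toMatrixAlgEquiv b).toAlgHom.toRingHom.toMonoidHom.comp L).toHomUnits
  have hθ : ∀ (g : H) (A : Matrix (Fin 2) (Fin 2) (ZMod p)),
      ρ (g : X) w = A 0 0 • w + A 1 0 • w₂ → ρ (g : X) w₂ = A 0 1 • w + A 1 1 • w₂ →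
        ((θ g : GL (Fin 2) (ZMod p)) : Matrix (Fin 2) (Fin 2) (ZMod p)) = A := by
    intro g A g1 g2
    show LinearMap.toMatrixAlgEquiv b (L g) = A
    rw [← LinearMap.toMatrixAlgEquiv_toLinAlgEquiv b A]
    refine congrArg _ (b.ext fun j => Subtype.ext ?_)
    rw [Matrix.toLinAlgEquiv_self, Submodule.coe_sum, Fin.sum_univ_two, Submodule.coe_smul, Submodule.coe_smul,
      hb 0, hb 1]
    show ρ (g : X) ((b j : W) : M) = _
    rw [hb]
    fin_cases j
    · exact g1
    · exact g2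
  have haH : a ∈ H := Subgroup.subset_closure (Set.mem_insert _ _)
  have ha'H : a' ∈ H := Subgroup.subset_closure (Set.mem_insert_of_mem _ (Set.mem_singleton a'))
  have hyH : y ∈ H := by rw [hy]; exact Subgroup.pow_mem H ha'H _
  have hx : θ ⟨a, haH⟩ = upperU := Units.ext (hθ _ _ (by simp [upperU, h1]) (by simp [upperU, h2, add_comm]))
  have hyθ : θ ⟨y, hyH⟩ = lowerU := Units.ext (hθ _ _ (by simp [lowerU, h5]) (by simp [lowerU, h6]))
  -- commutators of `H` lie in `Q`
  set N := Subgroup.normalizer (Q : Set X)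
  haveI : (Q.subgroupOf N).Normal := Subgroup.normal_in_normalizer
  have haN : a' ∈ N := mul_mem (mul_mem (Subgroup.le_normalizer hr) haQ) (inv_mem (Subgroup.le_normalizer hr))
  have hHN : H ≤ N := (Subgroup.closure_le _).2 (by rintro g (rfl | rfl); exacts [haQ, haN])
  let π := (QuotientGroup.mk' (Q.subgroupOf N)).comp (Subgroup.inclusion hHN)
  have hπ : π.range ≤ Subgroup.zpowers (π ⟨a, haH⟩) := by
    rintro _ ⟨⟨g, hg⟩, rfl⟩
    induction hg using Subgroup.closure_induction with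
    | mem z hz =>
      rcases hz with rfl | rfl
      · exact Subgroup.mem_zpowers _
      · refine Subgroup.mem_zpowers_iff.2 ⟨1, ?_⟩
        rw [zpow_one]
        refine QuotientGroup.eq.2 ?_
        show a⁻¹ * a' ∈ Q
        have := (Subgroup.mem_normalizer_iff.1 (inv_mem haQ) _).1 hcQ
        rwa [inv_inv, mul_assoc, inv_mul_cancel_right] at this
    | one => rw [show (⟨1, one_mem H⟩ : H) = 1 from rfl, map_one]; exact one_mem _
    | mul z z' hz hz' i1 i2 =>
      rw [show (⟨z * z', mul_mem hz hz'⟩ : H) = ⟨z, hz⟩ * ⟨z', hz'⟩ from rfl, map_mul]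
      exact mul_mem i1 i2
    | inv z hz i1 =>
      rw [show (⟨z⁻¹, inv_mem hz⟩ : H) = ⟨z, hz⟩⁻¹ from rfl, map_inv]
      exact inv_mem i1
  have hcomm : ∀ g g' : H, ⁅g, g'⁆ ∈ Q.subgroupOf H := fun g g' => by
    have e : π ⁅g, g'⁆ = 1 := by
      obtain ⟨i, hi⟩ := Subgroup.mem_zpowers_iff.1 (hπ ⟨g, rfl⟩)
      obtain ⟨j, hj⟩ := Subgroup.mem_zpowers_iff.1 (hπ ⟨g', rfl⟩)
      rw [map_commutatorElement, ← hi, ← hj]
      exact commutatorElement_eq_one_iff_mul_comm.2 (Commute.zpow_zpow_self _ i j).eq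
    exact ((QuotientGroup.eq_one_iff _).1 e : (Subgroup.inclusion hHN ⁅g, g'⁆) ∈ Q.subgroupOf N)
  refine no_sl2 hodd θ (Q.subgroupOf H) ?_ hcomm (fun hp3 T hT => ?_) hx hyθ
  · refine hQ.coprime_dvd_left ?_
    rw [← Subgroup.card_map_of_injective H.subtype_injective, Subgroup.subgroupOf_map_subtype]
    exact Subgroup.card_dvd_of_le inf_le_left
  · haveI := h3 hp3 (T.map H.subtype) (hT.map _)
    refine ⟨⟨fun s t => ?_⟩⟩
    have h' := congrArg Subtype.val
      (mul_comm' (⟨((s : H) : X), ⟨(s : H), s.2, rfl⟩⟩ : T.map H.subtype) ⟨((t : H) : X), ⟨(t : H), t.2, rfl⟩⟩)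
    exact Subtype.ext (Subtype.ext (by simpa using h'))

theorem commute_of_transvection [Finite X] (hodd : p ≠ 2) (hinj : Function.Injective ρ)
    (hM : ∀ x : M, p • x = 0) {a : X} {w : M} (ha : IsTransvection ρ a w) {Q : Subgroup X}
    (hQ : (Nat.card Q).Coprime p) (haQ : a ∈ Subgroup.normalizer (Q : Set X))
    (h3 : p = 3 → ∀ T : Subgroup X, IsPGroup 2 T → IsMulCommutative T) : ∀ r ∈ Q, a * r = r * a :=
  @commute_of_transvection_aux p hp M _ X _ ρ (AddCommGroup.zmodModule hM) _ hodd hinj hM a w ha Q hQ haQ h3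

/-- An element of order `p` with fixed points of index at most `p` is a transvection. -/
theorem exists_isTransvection [Finite M] [Finite X] (hM : ∀ x : M, p • x = 0) {a : X} (ha : a ^ p = 1)
    (hidx : (fixed ρ (Subgroup.zpowers a)).index ≤ p) : ∃ w, IsTransvection ρ a w := by
  let T : M →+ M := (show M →+ M from ρ a) - AddMonoidHom.id M
  have hT : ∀ x, T x = ρ a x - x := fun x => rfl
  have hker : fixed ρ (Subgroup.zpowers a) = T.ker := by
    ext x
    rw [AddMonoidHom.mem_ker, hT, sub_eq_zero, mem_fixed]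
    refine ⟨fun h => h a (Subgroup.mem_zpowers a), fun h b hb => ?_⟩
    obtain ⟨n, rfl⟩ := Submonoid.mem_powers_iff b a |>.mp
      ((isOfFinOrder_of_finite a).mem_powers_iff_mem_zpowers.mpr hb)
    induction n with
    | zero => rw [pow_zero, rho_one]
    | succ n ih => rw [pow_succ', rho_mul, ih (pow_mem (Subgroup.mem_zpowers a) n), h]
  rw [hker, AddSubgroup.index_ker] at hidx
  by_cases hbot : T.range = ⊥
  · refine ⟨0, map_zero _, fun x => ⟨0, ?_⟩⟩
    have h0 : T x ∈ T.range := ⟨x, rfl⟩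
    rw [hbot, AddSubgroup.mem_bot, hT, sub_eq_zero] at h0
    rw [smul_zero, add_zero, h0]
  haveI : Nontrivial T.range := (AddSubgroup.nontrivial_iff_ne_bot _).mpr hbot
  obtain ⟨⟨w, hwr⟩, hw0⟩ := exists_ne (0 : T.range)
  have hw0' : w ≠ 0 := fun h => hw0 (Subtype.ext h)
  have heq : AddSubgroup.zmultiples w = T.range :=
    AddSubgroup.eq_of_le_of_card_ge (AddSubgroup.zmultiples_le.mpr hwr)
      (by rw [Nat.card_zmultiples, addOrderOf_eq_prime (hM w) hw0']; exact hidx)
  have hr : ∀ x, ∃ k : ℤ, ρ a x = x + k • w := fun x => by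
    have h0 : T x ∈ AddSubgroup.zmultiples w := heq ▸ ⟨x, rfl⟩
    obtain ⟨k, hk⟩ := AddSubgroup.mem_zmultiples_iff.mp h0
    exact ⟨k, by rw [hk, hT]; abel⟩
  obtain ⟨k, hk⟩ := hr w
  refine ⟨w, ?_, hr⟩
  have hpow : ∀ n : ℕ, ρ (a ^ n) w = ((1 + k) ^ n) • w := by
    intro n
    induction n with
    | zero => simp [rho_one]
    | succ n ih => rw [pow_succ', rho_mul, ih, map_zsmul, hk, smul_add, ← mul_smul, pow_succ, mul_add, mul_one, add_smul]
  have h1 := hpow p
  rw [ha, rho_one, ← sub_eq_zero] at h1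
  have h2 : ((1 : ℤ) - (1 + k) ^ p) • w = 0 := by rwa [sub_smul, one_smul]
  have h3 := (ZMod.intCast_zmod_eq_zero_iff_dvd _ p).mpr (dvd_of_zsmul_eq_zero hw0' (hM w) h2)
  push_cast at h3
  rw [ZMod.pow_card, sub_add_cancel_left, neg_eq_zero] at h3
  obtain ⟨c, hc⟩ := (ZMod.intCast_zmod_eq_zero_iff_dvd _ p).mp h3
  rw [hk, hc, mul_comm, mul_smul, natCast_zsmul, hM, smul_zero, add_zero]

/-- The offender inequality for an arbitrary `p'`-subgroup. -/
theorem mul_card_le_index_general [Finite M] [Finite X] (hodd : p ≠ 2) (hinj : Function.Injective ρ)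
    (hM : ∀ x : M, p • x = 0) {Q : Subgroup X} (hQ : (Nat.card Q).Coprime p)
    {A : Subgroup X} (hA : ∀ a ∈ A, a ^ p = 1) [IsMulCommutative A]
    (hAQ : A ≤ Subgroup.normalizer (Q : Set X)) (hne : A ≠ ⊥)
    (hfaith : ∀ a ∈ A, (∀ r ∈ Q, a * r = r * a) → a = 1)
    (h3 : p = 3 → ∀ T : Subgroup X, IsPGroup 2 T → IsMulCommutative T) :
    p * Nat.card A ≤ (fixed ρ A).index :=
  mul_card_le_index_of ρ hodd hinj hM hQ hA hAQ hne hfaith fun a ha hidx => by
    obtain ⟨w, hw⟩ := exists_isTransvection ρ hM (hA a ha) hidx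
    exact commute_of_transvection ρ hodd hinj hM hw hQ (hAQ ha) h3

end Linear

end Cfsg.Lib.Thompson
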