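/-
Thompson factorization `G = N(J(P)) C(Ω₁(Z(P)))` for solvable groups, `p` odd.
-/
import Cfsg.Agent.Thompson.TransvectionPair
import Cfsg.Agent.Thompson.Subgroup
import Cfsg.Agent.Thompson.PComplement
import Cfsg.Agent.Coprime.Fitting
import Cfsg.Agent.Components.ZJ.Reduce
import Cfsg.Prelude

set_option autoImplicit false
set_option linter.unusedSectionVars false
set_option linter.style.haveILetI false

namespace Cfsg.Lib.Thompson

open Subgroup

universe u

variable {G : Type u} [Group G] [Finite G] {p : ℕ} [hp : Fact p.Prime]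

/-- Maximal elementary abelian subgroups of `P` centralise the normal closure of `Ω₁(Z(P))`. -/
theorem maxElem_le_centralizer_of_solvable [Group.IsSolvable G] (hodd : p ≠ 2)
    (h3 : p = 3 → ∀ T : Sylow 2 G, IsMulCommutative T) (P : Sylow p G) {V K : Subgroup G} [V.Normal] [K.Normal]
    (hK : K = centralizer (V : Set G)) (hV : Cfsg.IsElementaryAbelian p V) (hVP : V ≤ (P : Subgroup G))
    (hcore : Cfsg.pCore p (G ⧸ K) = ⊥) : ∀ A, IsMaxElem p (P : Subgroup G) A → A ≤ K := by
  intro A hA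
  by_contra hAK
  haveI hVc : IsMulCommutative V := hV.1
  have hVK : V ≤ K := by
    rw [hK]
    exact fun v hv => mem_centralizer_iff.2 fun w hw => congrArg Subtype.val (mul_comm' (⟨w, hw⟩ : V) ⟨v, hv⟩)
  have hKcomm : ∀ k ∈ K, ∀ v ∈ V, v * k = k * v := fun k hk v hv => by
    rw [hK] at hk; exact mem_centralizer_iff.1 hk v hv
  letI : CommGroup V := { (inferInstance : Group V) with mul_comm := mul_comm' }
  let φ : G →* AddMonoid.End (Additive V) :=
    { toFun := fun g => MonoidHom.toAdditive (MulAut.conjNormal (H := V) g).toMonoidHom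
      map_one' := AddMonoidHom.ext fun v => by
        show Additive.ofMul (MulAut.conjNormal 1 v.toMul) = v
        rw [map_one]; rfl
      map_mul' := fun a b => AddMonoidHom.ext fun v => by
        show Additive.ofMul (MulAut.conjNormal (a * b) v.toMul) =
          Additive.ofMul (MulAut.conjNormal a (MulAut.conjNormal b v.toMul))
        rw [map_mul]; rfl }
  have hKφ : K ≤ φ.ker := fun g hg => by
    rw [MonoidHom.mem_ker]
    refine AddMonoidHom.ext fun v => ?_
    show Additive.ofMul (MulAut.conjNormal g v.toMul) = v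
    refine congrArg Additive.ofMul (a₂ := v.toMul) (Subtype.ext ?_)
    rw [MulAut.conjNormal_apply, ← hKcomm g hg _ v.toMul.2, mul_inv_cancel_right]
  let ρ : G ⧸ K →* AddMonoid.End (Additive V) := QuotientGroup.lift K φ hKφ
  have hinj : Function.Injective ρ := by
    rw [injective_iff_map_eq_one]
    intro x
    induction x using QuotientGroup.induction_on with
    | _ g =>
      intro hg
      rw [QuotientGroup.eq_one_iff, hK]
      refine mem_centralizer_iff.mpr fun v hv => ?_
      have h1 : ρ (QuotientGroup.mk g) (Additive.ofMul ⟨v, hv⟩) = Additive.ofMul ⟨v, hv⟩ := by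
        rw [hg]; rfl
      have h2 : g * v * g⁻¹ = v := congrArg (fun t : Additive V => ((t.toMul : V) : G)) h1
      conv_lhs => rw [← h2]
      group
  haveI : Finite (Additive V) := Finite.of_equiv V Additive.ofMul
  have hM : ∀ x : Additive V, p • x = 0 := fun x =>
    congrArg Additive.ofMul (Subtype.ext (hV.2 _ x.toMul.2) : x.toMul ^ p = 1)
  set f := QuotientGroup.mk' K with hf
  let Ā := A.map f
  obtain ⟨hAc, hAp⟩ := hA.2.1
  haveI := hAc
  haveI : IsMulCommutative Ā := Subgroup.map_isMulCommutative A f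
  have hne : Ā ≠ ⊥ := fun h => hAK fun a ha => (QuotientGroup.eq_one_iff a).mp
    (mem_bot.mp (h ▸ mem_map_of_mem f ha))
  -- the Fitting subgroup of the quotient
  haveI : Group.IsSolvable (G ⧸ K) := Group.isSolvable_of_surjective (QuotientGroup.mk'_surjective K)
  set Q := Cfsg.fittingSubgroup (G ⧸ K)
  have hQcop : (Nat.card Q).Coprime p := by
    rw [Nat.coprime_comm, hp.out.coprime_iff_not_dvd]
    intro hd
    haveI := Cfsg.Lib.Components.isNilpotent_fitting (G := G ⧸ K)
    obtain ⟨W⟩ : Nonempty (Sylow p Q) := inferInstance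
    haveI : (W : Subgroup Q).Characteristic := Sylow.characteristic_of_normal W inferInstance
    have hW : (W : Subgroup Q).map Q.subtype ≤ Cfsg.pCore p (G ⧸ K) :=
      Cfsg.Lib.Components.le_pCore (W.2.map _)
    rw [hcore, le_bot_iff, map_eq_bot_iff_of_injective _ Q.subtype_injective] at hW
    exact W.ne_bot_of_dvd_card hd hW
  have hfaith : ∀ a ∈ Ā, (∀ r ∈ Q, a * r = r * a) → a = 1 := by
    rintro _ ⟨a, ha, rfl⟩ hr
    have h1 : f a ∈ Q := Cfsg.Lib.Coprime.centralizer_fitting_le
      (mem_centralizer_iff.2 fun r hr' => (hr r hr').symm)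
    refine orderOf_eq_one_iff.1 (Nat.eq_one_of_dvd_coprimes hQcop (orderOf_dvd_natCard Q h1) ?_)
    exact orderOf_dvd_of_pow_eq_one (by rw [← map_pow, hAp a ha, map_one])
  have h3' : p = 3 → ∀ T : Subgroup (G ⧸ K), IsPGroup 2 T → IsMulCommutative T := by
    intro hp3 T hT
    haveI := Fact.mk Nat.prime_two
    obtain ⟨W, hW⟩ := hT.exists_le_sylow
    obtain ⟨W₀, hW₀⟩ := Sylow.mapSurjective_surjective (QuotientGroup.mk'_surjective K) 2 W
    haveI := h3 hp3 W₀
    refine ⟨⟨fun s t => Subtype.ext ?_⟩⟩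
    have hs := hW s.2
    have ht := hW t.2
    rw [← hW₀, Sylow.coe_mapSurjective] at hs ht
    obtain ⟨s', hs', hse⟩ := hs
    obtain ⟨t', ht', hte⟩ := ht
    show (s : G ⧸ K) * t = t * s
    rw [← hse, ← hte, ← map_mul, ← map_mul, show s' * t' = t' * s' from
      congrArg Subtype.val (mul_comm' (⟨s', hs'⟩ : (W₀ : Subgroup G)) ⟨t', ht'⟩)]
  have key := mul_card_le_index_general ρ hodd hinj hM (Q := Q) hQcop (A := Ā)
    (by rintro _ ⟨a, ha, rfl⟩; rw [← map_pow, hAp a ha, map_one])
    (by rw [normalizer_eq_top]; exact le_top) hne hfaith h3'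
  have h1 : (fixed ρ Ā).index ≤ A.relIndex V := by
    rw [relIndex, ← index_toAddSubgroup]
    refine Nat.le_of_dvd (Nat.pos_of_ne_zero AddSubgroup.index_ne_zero_of_finite)
      (AddSubgroup.index_dvd_of_le ?_)
    intro v hv
    rintro _ ⟨a, ha, rfl⟩
    show Additive.ofMul (MulAut.conjNormal a v.toMul) = v
    refine congrArg Additive.ofMul (a₂ := v.toMul) (Subtype.ext ?_)
    rw [MulAut.conjNormal_apply,
      show a * ((v.toMul : V) : G) = ((v.toMul : V) : G) * a from
        congrArg Subtype.val (mul_comm' (⟨a, ha⟩ : A) ⟨((v.toMul : V) : G), hv⟩),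
      mul_inv_cancel_right]
  have h2 : Nat.card ↥(A ⊓ K) * Nat.card Ā = Nat.card A := by
    have h := relIndex_mul_relIndex ⊥ (A ⊓ K) A bot_le inf_le_left
    rw [relIndex_bot_left, relIndex_bot_left, inf_comm, inf_relIndex_right] at h
    rw [← h, inf_comm K A]
    congr 1
    have h' := relIndex_ker (K := A) f
    rw [QuotientGroup.ker_mk'] at h'
    exact h'.symm
  have hel : Cfsg.IsElementaryAbelian p (V ⊔ A ⊓ K) := by
    have hle : V ⊔ A ⊓ K ≤ centralizer ((V ⊔ A ⊓ K : Subgroup G) : Set G) := by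
      refine le_centralizer_iff.mpr (sup_le ?_ ?_) <;>
        refine le_centralizer_iff.mpr (sup_le ?_ ?_)
      · exact fun a ha => mem_centralizer_iff.mpr fun b hb => congrArg Subtype.val (mul_comm' (⟨b, hb⟩ : V) ⟨a, ha⟩)
      · exact fun a ha => mem_centralizer_iff.mpr fun b hb => hKcomm a ha.2 b hb
      · exact fun a ha => mem_centralizer_iff.mpr fun b hb => (hKcomm b hb.2 a ha).symm
      · exact fun a ha => mem_centralizer_iff.mpr fun b hb =>
          congrArg Subtype.val (mul_comm' (⟨b, hb.1⟩ : A) ⟨a, ha.1⟩)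
    refine ⟨⟨⟨fun a b => Subtype.ext (mem_centralizer_iff.mp (hle b.2) a a.2)⟩⟩, fun x hx => ?_⟩
    obtain ⟨v, hv, a, ha, rfl⟩ := mem_sup_of_normal_left.mp hx
    have hc : Commute v a := hKcomm a ha.2 v hv
    rw [hc.mul_pow, hV.2 v hv, hAp a ha.1, one_mul]
  have h3'' : Nat.card ↥(A ⊓ K) * A.relIndex V ≤ Nat.card A := by
    have hs := Cfsg.Lib.Coprime.card_sup_mul_card_inf (N := V) (H := A ⊓ K)
      (le_normalizer_of_normal)
    have he : V ⊓ (A ⊓ K) = A ⊓ V :=
      le_antisymm (le_inf (inf_le_right.trans inf_le_left) inf_le_left)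
        (le_inf inf_le_right (le_inf inf_le_left (inf_le_right.trans hVK)))
    have hv := relIndex_mul_relIndex ⊥ (A ⊓ V) V bot_le inf_le_right
    rw [relIndex_bot_left, relIndex_bot_left, inf_relIndex_right] at hv
    rw [he, ← hv] at hs
    refine le_trans (le_of_eq ?_) (hA.2.2 _ (sup_le hVP (inf_le_left.trans hA.1)) hel)
    refine Nat.eq_of_mul_eq_mul_right (Nat.card_pos (α := ↥(A ⊓ V))) ?_
    rw [hs]; ring
  have h4 : A.relIndex V ≤ Nat.card Ā := Nat.le_of_mul_le_mul_left (h2 ▸ h3'') Nat.card_pos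
  have h5 : 2 * Nat.card Ā ≤ Nat.card Ā :=
    (Nat.mul_le_mul_right _ hp.out.two_le).trans (key.trans (h1.trans h4))
  have h6 : 0 < Nat.card Ā := Nat.card_pos
  omega

/-- **Thompson factorization** for solvable groups. -/
theorem solvable_factorization (hodd : p ≠ 2) [Group.IsSolvable G]
    (h3 : p = 3 → ∀ T : Sylow 2 G, IsMulCommutative T)
    (hF : ∀ N : Subgroup G, N.Normal → Nat.Coprime (Nat.card N) p → N = ⊥) (P : Sylow p G) (g : G) :
    ∃ a ∈ normalizer (Cfsg.thompsonSubgroupOf p (P : Subgroup G) : Set G),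
      ∃ c ∈ centralizer {x : G | x ∈ (P : Subgroup G) ∧ (∀ y ∈ (P : Subgroup G), x * y = y * x) ∧ x ^ p = 1},
        g = a * c := by
  set Zs : Set G := {x : G | x ∈ (P : Subgroup G) ∧ (∀ y ∈ (P : Subgroup G), x * y = y * x) ∧ x ^ p = 1}
  have hO : Cfsg.pPrimeCore p G = ⊥ := le_bot_iff.1 (sSup_le fun N hN => (hF N hN.1 hN.2).le)
  have hOP := Cfsg.Lib.Coprime.pCore_le_sylow p P
  set R := Cfsg.pCore p G
  have hCR : centralizer (R : Set G) ≤ R := Cfsg.Lib.Coprime.centralizer_pCore_le p hO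
  haveI : R.Normal := Cfsg.Lib.Components.pCore_normal' p
  -- elements of order dividing `p` in the centre of `R`
  let U₀ : Subgroup G :=
    { carrier := {x | x ∈ R ⊓ centralizer (R : Set G) ∧ x ^ p = 1}
      one_mem' := ⟨one_mem _, one_pow p⟩
      mul_mem' := fun {a b} ha hb => ⟨mul_mem ha.1 hb.1, by
        have hc : Commute a b := mem_centralizer_iff.mp hb.1.2 a ha.1.1
        rw [hc.mul_pow, ha.2, hb.2, one_mul]⟩
      inv_mem' := fun {a} ha => ⟨inv_mem ha.1, by rw [inv_pow, ha.2, inv_one]⟩ }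
  haveI hZn : (R ⊓ centralizer (R : Set G)).Normal := inferInstance
  haveI : U₀.Normal := ⟨fun x hx t => ⟨hZn.conj_mem x hx.1 t, by rw [conj_pow, hx.2, mul_one, mul_inv_cancel]⟩⟩
  have hZs : Zs ⊆ U₀ := fun x hx => by
    have h1 : x ∈ centralizer (R : Set G) := mem_centralizer_iff.2 fun y hy => (hx.2.1 y (hOP hy)).symm
    exact ⟨Subgroup.mem_inf.2 ⟨hCR h1, h1⟩, hx.2.2⟩
  set V := normalClosure Zs with hVdef
  have hVU : V ≤ U₀ := normalClosure_le_normal hZs
  have hVR : V ≤ R := fun x hx => (hVU hx).1.1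
  have hV : Cfsg.IsElementaryAbelian p V :=
    ⟨⟨⟨fun a b => Subtype.ext (mem_centralizer_iff.1 (hVU b.2).1.2 a (hVU a.2).1.1)⟩⟩, fun x hx => (hVU hx).2⟩
  set K := centralizer (V : Set G) with hKdef
  haveI : K.Normal := inferInstance
  have hcore : Cfsg.pCore p (G ⧸ K) = ⊥ := by
    set L := (Cfsg.pCore p (G ⧸ K)).comap (QuotientGroup.mk' K) with hL
    haveI : L.Normal := inferInstance
    haveI := Cfsg.Lib.Components.pCore_normal' (G := G ⧸ K) p
    have hLR : L ≤ K ⊔ (P : Subgroup G) := by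
      intro x hx
      have h1 : QuotientGroup.mk' K x ∈ (P : Subgroup G).map (QuotientGroup.mk' K) :=
        le_sylow_of_normal (Cfsg.Lib.Components.isPGroup_pCore p)
          (P.mapSurjective (QuotientGroup.mk'_surjective K)) (show QuotientGroup.mk' K x ∈ Cfsg.pCore p _ from hx)
      have h2 : x ∈ ((P : Subgroup G).map (QuotientGroup.mk' K)).comap (QuotientGroup.mk' K) := h1
      rwa [comap_map_eq, QuotientGroup.ker_mk', sup_comm] at h2
    have hKP : K ⊔ (P : Subgroup G) ≤ centralizer Zs := by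
      refine sup_le (centralizer_le (subset_normalClosure)) fun y hy => mem_centralizer_iff.2 fun x hx => hx.2.1 y hy
    have hZL : Zs ⊆ centralizer (L : Set G) := fun x hx =>
      mem_centralizer_iff.2 fun y hy => (mem_centralizer_iff.1 (hKP (hLR hy)) x hx).symm
    have hLK : L ≤ K := by
      rw [hKdef, le_centralizer_iff]
      exact normalClosure_le_normal hZL
    rw [eq_bot_iff, ← Subgroup.map_comap_eq_self_of_surjective (QuotientGroup.mk'_surjective K) (Cfsg.pCore p (G ⧸ K)), ← hL]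
    exact (map_mono hLK).trans (QuotientGroup.map_mk'_self K).le
  have hmax := maxElem_le_centralizer_of_solvable hodd h3 P (V := V) (K := K) rfl hV (hVR.trans hOP) hcore
  set R₁ := (P : Subgroup G) ⊓ K
  have hJ : Cfsg.thompsonSubgroupOf p R₁ = Cfsg.thompsonSubgroupOf p (P : Subgroup G) := by
    rw [thompsonSubgroupOf_eq, thompsonSubgroupOf_eq]
    congr 1
    ext A
    refine ⟨fun hA => ⟨hA.1.trans inf_le_left, hA.2.1, fun B hB hBe => ?_⟩,
      fun hA => ⟨le_inf hA.1 (hmax A hA), hA.2.1, fun B hB hBe => hA.2.2 B (hB.trans inf_le_left) hBe⟩⟩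
    obtain ⟨A₀, hA₀⟩ := exists_isMaxElem (p := p) (P : Subgroup G)
    exact (hA₀.2.2 B hB hBe).trans (hA.2.2 A₀ (le_inf hA₀.1 (hmax A₀ hA₀)) hA₀.2.1)
  have hfr := Cfsg.Lib.ZJ.sup_normalizer_inf_eq_top K P
  obtain ⟨a, ha, c, hc, rfl⟩ := Subgroup.mem_sup_of_normal_right.1 ((sup_comm K _ ▸ hfr).ge (mem_top g) : g ∈ normalizer ((R₁ : Subgroup G) : Set G) ⊔ K)
  refine ⟨a, hJ ▸ normalizer_le_normalizer_thompson R₁ ha, c, ?_, rfl⟩
  exact centralizer_le subset_normalClosure hc

end Cfsg.Lib.Thompson
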