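/-
Lifting normalisers of p-subgroups modulo a normal p'-subgroup.
-/
import Mathlib.GroupTheory.Sylow

set_option linter.style.haveILetI false
set_option linter.unusedSectionVars false

namespace Cfsg.Lib.ThompsonFactor

open Subgroup

variable {G : Type*} [Group G] [Finite G] {p : ℕ} [Fact p.Prime]

theorem lift_normalizer {N Q : Subgroup G} [N.Normal] (hN : (Nat.card N).Coprime p) (hQ : IsPGroup p Q) {g : G}
    (hg : ∀ x ∈ Q, g * x * g⁻¹ ∈ Q ⊔ N) : ∃ n ∈ N, n * g ∈ normalizer (Q : Set G) := by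
  set H : Subgroup G := Q ⊔ N with hH
  obtain ⟨R, hR⟩ := (hQ.of_equiv (subgroupOfEquivOfLe (le_sup_left : Q ≤ H)).symm).exists_le_sylow
  have hRQ : ∀ t : H, t ∈ (R : Subgroup H) → (t : G) ∈ Q := by
    intro t ht
    have ht' : (t : G) ∈ N ⊔ Q := by rw [sup_comm]; exact t.2
    obtain ⟨m, hm, q, hq, hmq⟩ := mem_sup_of_normal_left.1 ht'
    set q' : H := ⟨q, mem_sup_left hq⟩
    have h1 : t * q'⁻¹ ∈ (R : Subgroup H) := mul_mem ht (inv_mem (hR (show q' ∈ Q.subgroupOf H from hq)))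
    have h2 : ((t * q'⁻¹ : H) : G) = m := by
      show (t : G) * q⁻¹ = m
      rw [← hmq]; group
    obtain ⟨k, hk⟩ := (IsPGroup.iff_orderOf.1 R.isPGroup') ⟨_, h1⟩
    rw [Subgroup.orderOf_mk, ← orderOf_coe, h2] at hk
    have hdvd : orderOf m ∣ Nat.card N := orderOf_dvd_natCard _ hm
    have h3 : orderOf m = 1 := by
      have := Nat.Coprime.coprime_dvd_left hdvd hN
      rw [hk] at this ⊢
      exact Nat.Coprime.eq_one_of_dvd (this.pow_right k) dvd_rfl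
    rw [orderOf_eq_one_iff] at h3
    rw [← hmq, h3, one_mul]
    exact hq
  set Q' := Q.map (MulAut.conj g).toMonoidHom with hQ'
  have hQ'H : Q' ≤ H := by
    rintro _ ⟨x, hx, rfl⟩
    exact hg x hx
  obtain ⟨S, hS⟩ := ((hQ.map _).of_equiv (subgroupOfEquivOfLe hQ'H).symm).exists_le_sylow
  obtain ⟨c, hc⟩ := MulAction.exists_smul_eq H S R
  have hc' : (c : G) ∈ Q ⊔ N := c.2
  obtain ⟨q, hq, m, hm, hqm⟩ := mem_sup_of_normal_right.1 hc'
  refine ⟨m, hm, mem_normalizer_fintype fun x hx => ?_⟩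
  have hy : g * x * g⁻¹ ∈ Q' := ⟨x, hx, rfl⟩
  have h1 : c * ⟨_, hQ'H hy⟩ * c⁻¹ ∈ (R : Subgroup H) := by
    rw [← hc, Sylow.coe_subgroup_smul]
    exact ⟨_, hS hy, rfl⟩
  have h2 : (c : G) * (g * x * g⁻¹) * (c : G)⁻¹ ∈ Q := hRQ _ h1
  rw [← hqm] at h2
  have h3 := mul_mem (mul_mem (inv_mem hq) h2) hq
  rwa [show q⁻¹ * (q * m * (g * x * g⁻¹) * (q * m)⁻¹) * q = m * g * x * (m * g)⁻¹ by group] at h3

end Cfsg.Lib.ThompsonFactor
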